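import Cfsg.Agent.Lib.TwoGroups.SelfCentEight.Flag

/-!
Involutions inducing transvections on the normal eight-group with no fixed points in its centralizer
outside it, and the first layer of the centralizer above the eight-group.
-/

set_option autoImplicit false
set_option linter.style.haveILetI false
set_option linter.unusedSectionVars false

namespace CfsgLib.TwoGroups.SelfCentEight

open CfsgLib.TwoGroups.NormalRankTwo

variable {S : Type*} [Group S] [Finite S] {V : Subgroup S}

theorem mv_comp (r s x : S) : mv (r * s) x = mv r x * (r * mv s x * r⁻¹) := by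
  simp only [mv]; group

theorem mv_inverted {r : S} (hr : r * r = 1) (x : S) : r * mv r x * r⁻¹ = (mv r x)⁻¹ := by
  have hi : r⁻¹ = r := inv_eq_of_mul_eq_one_right hr
  simp only [mv, hi, mul_inv_rev, inv_inv, mul_assoc]
  rw [hr, mul_one]

/-- An involution inducing a transvection with centre `w`, with all fixed points in `V`. -/
structure Transv (V : Subgroup S) (r w : S) : Prop where
  sq : r * r = 1
  notC : r ∉ cen V
  fix : ∀ x ∈ cen V, mv r x = 1 → x ∈ V
  w_mem : w ∈ V
  w_ne : w ≠ 1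
  move : ∀ v ∈ V, mv r v ∈ Subgroup.zpowers w

namespace Transv

variable {r w : S}

theorem exists_moved (hV : Eight V) (T : Transv V r w) : ∃ v ∈ V, mv r v = w := by
  by_contra h
  push Not at h
  refine T.notC (mem_cen.2 fun v hv => ?_)
  rcases eq_one_or_of_mem_zpowers (hV.sq w T.w_mem) (T.move v hv) with e | e
  · exact (mv_eq_one.1 e).symm
  · exact absurd e (h v hv)

/-- The fixed points of `r` in `V`. -/
def U (hV : Eight V) (_T : Transv V r w) : Subgroup S := shift hV r ⊥

theorem mem_U (hV : Eight V) (T : Transv V r w) {v : S} : v ∈ T.U hV ↔ v ∈ V ∧ mv r v = 1 := by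
  show v ∈ V ∧ mv r v ∈ (⊥ : Subgroup S) ↔ _
  rw [Subgroup.mem_bot]

theorem U_le (hV : Eight V) (T : Transv V r w) : T.U hV ≤ V := fun _ h => h.1

theorem w_fixed (hV : Eight V) (T : Transv V r w) : mv r w = 1 := by
  obtain ⟨v, hv, e⟩ := T.exists_moved hV
  have h := mv_inverted T.sq v
  rw [e, inv_eq hV T.w_mem] at h
  rw [mv, h, inv_mul_cancel]

theorem zpowers_le_U (hV : Eight V) (T : Transv V r w) : Subgroup.zpowers w ≤ T.U hV :=
  Subgroup.zpowers_le.2 ((T.mem_U hV).2 ⟨T.w_mem, T.w_fixed hV⟩)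

theorem card_U (hV : Eight V) (T : Transv V r w) : Nat.card (T.U hV) = 4 := by
  obtain ⟨v0, hv0, e0⟩ := T.exists_moved hV
  have hidx : (T.U hV).relIndex V = 2 := by
    rw [Subgroup.relIndex, Subgroup.index_eq_two_iff]
    refine ⟨⟨v0, hv0⟩, fun b => ?_⟩
    show Xor ((b : S) * v0 ∈ T.U hV) ((b : S) ∈ T.U hV)
    rcases eq_one_or_of_mem_zpowers (hV.sq w T.w_mem) (T.move b b.2) with e | e
    · refine Or.inr ⟨(T.mem_U hV).2 ⟨b.2, e⟩, fun h => T.w_ne ?_⟩
      have h' := ((T.mem_U hV).1 h).2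
      rwa [mv_hom_mul hV r b.2 hv0, e, one_mul, e0] at h'
    · refine Or.inl ⟨(T.mem_U hV).2 ⟨V.mul_mem b.2 hv0, ?_⟩, fun h => T.w_ne ?_⟩
      · rw [mv_hom_mul hV r b.2 hv0, e, e0, hV.sq w T.w_mem]
      · rw [← e, ((T.mem_U hV).1 h).2]
  have := relIndex_mul_card (T.U_le hV)
  rw [hidx, hV.card] at this
  omega

theorem card_zpowers (hV : Eight V) (T : Transv V r w) : Nat.card (Subgroup.zpowers w) = 2 := by
  rw [Nat.card_zpowers]
  haveI : Fact (Nat.Prime 2) := ⟨Nat.prime_two⟩
  exact orderOf_eq_prime (by rw [pow_two]; exact hV.sq w T.w_mem) T.w_ne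

/-- An element of `C(V)` displaced into the line of `w` lies in `V`. -/
theorem mem_of_mv (hV : Eight V) (T : Transv V r w) {x : S} (hx : x ∈ cen V)
    (h : mv r x ∈ Subgroup.zpowers w) : x ∈ V := by
  rcases eq_one_or_of_mem_zpowers (hV.sq w T.w_mem) h with e | e
  · exact T.fix x hx e
  · obtain ⟨v, hv, ev⟩ := T.exists_moved hV
    have h1 : mv r (x * v) = 1 := by
      rw [mv_mul_of hV r (le_cen hV hv) (by rw [e]; exact T.w_mem), e, ev, hV.sq w T.w_mem]
    exact (V.mul_mem_cancel_right hv).1 (T.fix _ ((cen V).mul_mem hx (le_cen hV hv)) h1)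

theorem mv_mem_U (hV : Eight V) (T : Transv V r w) {x : S} (h : mv r x ∈ V) : mv r x ∈ T.U hV := by
  refine (T.mem_U hV).2 ⟨h, ?_⟩
  rw [mv, mv_inverted T.sq x, inv_eq hV h, hV.sq _ h]

/-- Two elements outside `V` displaced into `V` differ by an element of `V`. -/
theorem mul_mem (hV : Eight V) (T : Transv V r w) {x y : S} (hx : x ∈ cen V) (hy : y ∈ cen V)
    (hxV : x ∉ V) (hyV : y ∉ V) (hmx : mv r x ∈ V) (hmy : mv r y ∈ V) : x * y ∈ V := by
  refine T.mem_of_mv hV ((cen V).mul_mem hx hy) ?_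
  rw [mv_mul_of hV r hy hmx]
  exact mul_mem_of_card (T.zpowers_le_U hV) (by rw [T.card_U hV, T.card_zpowers hV]) (T.mv_mem_U hV hmx)
    (T.mv_mem_U hV hmy) (fun h => hxV (T.mem_of_mv hV hx h)) fun h => hyV (T.mem_of_mv hV hy h)

end Transv

/-- An element of the first layer of `C(V)` above `V`. -/
structure Layer (V : Subgroup S) (e : S) : Prop where
  mem : e ∈ cen V
  out : e ∉ V
  sq : e * e ∈ V
  central : ∀ s : S, mv s e ∈ V

theorem exists_layer_cen (hS : IsPGroup 2 S) (hV : Eight V) (h : ¬ cen V ≤ V) : ∃ e, Layer V e := by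
  haveI := hV.normal
  obtain ⟨e, h1, h2, h3, h4⟩ := exists_layer hS (cen_normal hV) h
  exact ⟨e, h1, h2, h3, h4⟩

namespace Layer

variable {e : S}

/-- `V ∪ eV`. -/
def VE (hV : Eight V) (E : Layer V e) : Subgroup S where
  carrier := {x | x ∈ V ∨ e * x ∈ V}
  one_mem' := Or.inl V.one_mem
  mul_mem' := by
    intro x y hx hy
    have hc : ∀ v ∈ V, v * e = e * v := fun v hv => mem_cen.1 E.mem v hv
    rcases hx with hx | hx <;> rcases hy with hy | hy
    · exact Or.inl (V.mul_mem hx hy)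
    · right
      rw [← mul_assoc, ← hc x hx, mul_assoc]
      exact V.mul_mem hx hy
    · right
      rw [← mul_assoc]
      exact V.mul_mem hx hy
    · left
      have h := V.mul_mem (V.inv_mem E.sq) (V.mul_mem hx hy)
      rwa [show (e * e)⁻¹ * (e * x * (e * y)) = x * y by
        rw [show e * x * (e * y) = e * (x * e) * y by group]
        have hxe : x * e = e * x := by
          have h1 := hc _ hx
          rw [mul_assoc] at h1
          exact mul_left_cancel h1
        rw [hxe]; group] at h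
  inv_mem' := by
    intro x hx
    rcases hx with hx | hx
    · exact Or.inl (V.inv_mem hx)
    · right
      have h := V.mul_mem E.sq (V.inv_mem hx)
      have hc := mem_cen.1 E.mem _ hx
      rw [mul_assoc] at hc
      have hxe : x * e = e * x := mul_left_cancel hc
      have hi : e * x⁻¹ = x⁻¹ * e := (Commute.inv_right (a := e) (b := x) hxe.symm).eq
      rwa [show e * e * (e * x)⁻¹ = e * (e * x⁻¹) * e⁻¹ by group, hi,
        show e * (x⁻¹ * e) * e⁻¹ = e * x⁻¹ by group] at h

theorem mem_VE (hV : Eight V) (E : Layer V e) {x : S} : x ∈ E.VE hV ↔ x ∈ V ∨ e * x ∈ V := Iff.rfl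

theorem le_VE (hV : Eight V) (E : Layer V e) : V ≤ E.VE hV := fun _ h => Or.inl h

theorem e_mem_VE (hV : Eight V) (E : Layer V e) : e ∈ E.VE hV := Or.inr E.sq

theorem exists_eq (hV : Eight V) (E : Layer V e) {x : S} (hx : x ∈ E.VE hV) (hxV : x ∉ V) :
    ∃ v ∈ V, x = e * v := by
  refine ⟨(e * e)⁻¹ * (e * x), V.mul_mem (V.inv_mem E.sq) (hx.resolve_left hxV), ?_⟩
  group

theorem VE_le_cen (hV : Eight V) (E : Layer V e) : E.VE hV ≤ cen V := by
  intro x hx
  rcases hx with h | h
  · exact le_cen hV h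
  · exact ((cen V).mul_mem_cancel_left E.mem).1 (le_cen hV h)

theorem VE_normal (hV : Eight V) (E : Layer V e) : (E.VE hV).Normal := by
  refine ⟨fun x hx g => ?_⟩
  by_cases hxV : x ∈ V
  · exact Or.inl (hV.normal.conj_mem x hxV g)
  · obtain ⟨v, hv, rfl⟩ := E.exists_eq hV hx hxV
    rw [show g * (e * v) * g⁻¹ = (g * e * g⁻¹) * (g * v * g⁻¹) by group, conj_eq]
    exact (E.VE hV).mul_mem ((E.VE hV).mul_mem (E.e_mem_VE hV) (Or.inl (E.central g)))
      (Or.inl (hV.normal.conj_mem v hv g))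

theorem card_VE (hV : Eight V) (E : Layer V e) : Nat.card (E.VE hV) = 16 := by
  have hidx : V.relIndex (E.VE hV) = 2 := by
    rw [Subgroup.relIndex, Subgroup.index_eq_two_iff]
    refine ⟨⟨e, E.e_mem_VE hV⟩, fun b => ?_⟩
    show Xor ((b : S) * e ∈ V) ((b : S) ∈ V)
    have hcomm : (b : S) ∈ V → (b : S) * e = e * b := fun h => mem_cen.1 E.mem _ h
    by_cases hb : (b : S) ∈ V
    · refine Or.inr ⟨hb, fun h => E.out ?_⟩
      exact (V.mul_mem_cancel_left hb).1 h
    · obtain ⟨v, hv, e'⟩ := E.exists_eq hV b.2 hb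
      refine Or.inl ⟨?_, hb⟩
      rw [e', mul_assoc, mem_cen.1 E.mem v hv, ← mul_assoc]
      exact V.mul_mem E.sq hv
  rw [← relIndex_mul_card (E.le_VE hV), hidx, hV.card]

theorem comm_VE (hV : Eight V) (E : Layer V e) {x y : S} (hx : x ∈ E.VE hV) (hy : y ∈ E.VE hV) :
    x * y = y * x := by
  have hc : ∀ v ∈ V, v * e = e * v := fun v hv => mem_cen.1 E.mem v hv
  by_cases hxV : x ∈ V <;> by_cases hyV : y ∈ V
  · exact hV.comm x hxV y hyV
  · exact mem_cen.1 (E.VE_le_cen hV hy) x hxV
  · exact (mem_cen.1 (E.VE_le_cen hV hx) y hyV).symm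
  · obtain ⟨a, ha, rfl⟩ := E.exists_eq hV hx hxV
    obtain ⟨b, hb, rfl⟩ := E.exists_eq hV hy hyV
    calc e * a * (e * b) = e * (a * e) * b := by group
      _ = e * e * (a * b) := by rw [hc a ha]; group
      _ = e * e * (b * a) := by rw [hV.comm a ha b hb]
      _ = e * (e * b) * a := by group
      _ = e * (b * e) * a := by rw [hc b hb]
      _ = e * b * (e * a) := by group

/-- Squares of the first layer are central in the whole group. -/
theorem sq_fixed (hV : Eight V) (E : Layer V e) (s : S) : mv s (e * e) = 1 := by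
  rw [mv_mul_of hV s E.mem (E.central s), hV.sq _ (E.central s)]

theorem mem_VE_of_mv (hV : Eight V) (E : Layer V e) {r w x : S} (T : Transv V r w) (hx : x ∈ cen V)
    (h : mv r x ∈ V) : x ∈ E.VE hV := by
  by_cases hxV : x ∈ V
  · exact Or.inl hxV
  · exact Or.inr (T.mul_mem hV E.mem hx E.out hxV (E.central r) h)

end Layer

end CfsgLib.TwoGroups.SelfCentEight
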