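import Cfsg.Agent.Lib.TwoGroups.SelfCentEight.Small
import Cfsg.Agent.Lib.TwoGroups.SelfCentEight.Transvection
import Cfsg.Agent.Lib.Transfer.MaximalClass

/-!
The three configurations of a self-centralizing eight-group against a normal eight-group.
-/

set_option autoImplicit false
set_option linter.style.haveILetI false
set_option linter.unusedSectionVars false

namespace CfsgLib.TwoGroups.SelfCentEight

open CfsgLib.TwoGroups.NormalRankTwo

universe uS

variable {S : Type uS} [Group S] [Finite S] {V : Subgroup S} {c1 c2 c3 : S}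

/-- Elements congruent modulo a commutative centralizer displace alike. -/
theorem transfer {h r x : S} (hc : ∀ a ∈ cen V, ∀ b ∈ cen V, a * b = b * a) (hhr : h⁻¹ * r ∈ cen V)
    (hx : x ∈ cen V) : mv r x = mv h x := by
  have e : mv (h⁻¹ * r) x = 1 := mv_eq_one.2 (hc _ hhr _ hx)
  calc mv r x = mv (h * (h⁻¹ * r)) x := by rw [mul_inv_cancel_left]
    _ = mv h x := by rw [mv_comp, e, mul_one, mul_inv_cancel, mul_one]

theorem one_of_mem (F : Flag V c1 c2 c3) {r1 r2 x : S} (h1 : mv r1 x ∈ Subgroup.zpowers c1)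
    (h2 : mv r2 x ∈ Subgroup.zpowers c1) : mv r1 x = 1 ∨ mv r2 x = 1 ∨ mv (r1 * r2) x = 1 := by
  rcases eq_one_or_of_mem_zpowers (F.eight.sq c1 F.m1) h1 with e1 | e1
  · exact Or.inl e1
  rcases eq_one_or_of_mem_zpowers (F.eight.sq c1 F.m1) h2 with e2 | e2
  · exact Or.inr (Or.inl e2)
  refine Or.inr (Or.inr ?_)
  rw [mv_comp, e1, e2, conj_eq, F.fix1, mul_one, F.eight.sq c1 F.m1]

/-- Three transvections forming a four-group with common centre. -/
theorem four_case (hS : IsPGroup 2 S) (F : Flag V c1 c2 c3) {r1 r2 : S} (T1 : Transv V r1 c1)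
    (T2 : Transv V r2 c1) (T3 : Transv V (r1 * r2) c1) (H : Subgroup S) :
    (sq H).relIndex H ≤ 16 := by
  have hV := F.eight
  by_cases hCV : cen V ≤ V
  · have h8 : Nat.card (cen V) ≤ 8 := (Subgroup.card_le_of_le hCV).trans hV.card.le
    exact F.relIndex_le_sixteen hS (by omega) (fun e he hout => absurd (hCV he) hout)
      (fun h16 => absurd h16 (by omega)) H
  obtain ⟨e, E⟩ := exists_layer_cen hS hV hCV
  have hceq : cen V = E.VE hV := by
    refine le_antisymm ?_ (E.VE_le_cen hV)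
    by_contra hnot
    haveI := E.VE_normal hV
    obtain ⟨y, hy, hyn, -, hys⟩ := exists_layer hS (cen_normal hV) hnot
    by_cases h1 : mv r1 y ∈ V
    · exact hyn (E.mem_VE_of_mv hV T1 hy h1)
    by_cases h2 : mv r2 y ∈ V
    · exact hyn (E.mem_VE_of_mv hV T2 hy h2)
    refine hyn (E.mem_VE_of_mv hV T3 hy ?_)
    obtain ⟨b, hb, hbe⟩ := E.exists_eq hV (hys r2) h2
    rw [mv_comp, conj_eq, ← mul_assoc]
    refine V.mul_mem (mul_mem_of_card (E.le_VE hV) (by rw [E.card_VE hV, hV.card]) (hys r1) (hys r2) h1 h2) ?_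
    rw [hbe, mv_mul_of hV r1 (le_cen hV hb) (E.central r1)]
    exact V.mul_mem (E.central r1) (mv_mem hV r1 hb)
  have hc : ∀ a ∈ cen V, ∀ b ∈ cen V, a * b = b * a := fun a ha b hb =>
    E.comm_VE hV (hceq ▸ ha) (hceq ▸ hb)
  refine F.relIndex_le_sixteen hS (by rw [hceq, E.card_VE hV]) ?_ ?_ H
  · -- transvections with axis the second term of the flag
    intro x hx hxV hfull
    have hfix : ∀ r w, Transv V r w → mv r c2 = 1 → False := fun r w T h2 => by
      obtain ⟨h, hh2, hh3, hhx⟩ := hfull _ (F.fix3 r)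
      exact hxV (T.fix x hx (by rw [transfer hc (F.alike (hh2.trans h2.symm) hh3) hx, hhx]))
    have hz : ∀ r, mv r c2 ∈ Subgroup.zpowers c1 := fun r => by
      rcases F.fix2 r with h | h <;> rw [h]
      exacts [one_mem _, Subgroup.mem_zpowers c1]
    rcases one_of_mem F (hz r1) (hz r2) with h | h | h
    exacts [hfix _ _ T1 h, hfix _ _ T2 h, hfix _ _ T3 h]
  · -- transvections with centre the first term of the flag
    intro _ hfull
    have hcov : ∀ r, Transv V r c1 → mv r e ∈ Subgroup.zpowers c1 := fun r T => by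
      obtain ⟨h, h2, h3, hall⟩ := hfull _ (T.move c2 F.m2) _ (T.move c3 F.m3)
      rw [transfer hc (F.alike h2 h3) E.mem]
      exact hall e E.mem
    rcases one_of_mem F (hcov r1 T1) (hcov r2 T2) with h | h | h
    exacts [E.out (T1.fix e E.mem h), E.out (T2.fix e E.mem h), E.out (T3.fix e E.mem h)]

/-- An elementary abelian self-centralizing subgroup of order eight. -/
structure SelfCent (A : Subgroup S) : Prop where
  comm : ∀ a ∈ A, ∀ b ∈ A, a * b = b * a
  sq : ∀ a ∈ A, a * a = 1
  card : Nat.card A = 8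
  self : ∀ x, (∀ a ∈ A, a * x = x * a) → x ∈ A

variable {A : Subgroup S} {a w : S}

theorem mem_or_mul_mem (hV : Eight V) (hA : SelfCent A) (T : Transv V a w) (haA : a ∈ A)
    (hUA : T.U hV ≤ A) {x : S} (hx : x ∈ A) : x ∈ T.U hV ∨ a * x ∈ T.U hV := by
  by_cases h : x ∈ T.U hV
  · exact Or.inl h
  · exact Or.inr (mul_mem_of_card hUA (by rw [hA.card, T.card_U hV]) haA hx
      (fun h' => T.notC (le_cen hV (T.U_le hV h'))) h)

theorem self_of_fix (hV : Eight V) (hA : SelfCent A) (T : Transv V a w) (haA : a ∈ A)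
    (hUA : T.U hV ≤ A) {x : S} (ha : x * a * x⁻¹ = a) (hU : ∀ u ∈ T.U hV, mv x u = 1) : x ∈ A := by
  have hxa : a * x = x * a := by
    conv_lhs => rw [← ha]
    rw [inv_mul_cancel_right]
  refine hA.self x fun b hb => ?_
  rcases mem_or_mul_mem hV hA T haA hUA hb with h | h
  · exact (mv_eq_one.1 (hU b h)).symm
  · have hb' : b = a * (a * b) := by rw [← mul_assoc, T.sq, one_mul]
    rw [hb', mul_assoc, ← (mv_eq_one.1 (hU _ h)), ← mul_assoc, hxa, mul_assoc]

/-- Displacements by `a` of the first layer cover the fixed points of `a` in `V`. -/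
theorem cover (hV : Eight V) (T : Transv V a w) {e : S} (E : Layer V e) {v : S} (hv : v ∈ T.U hV) :
    ∃ c ∈ E.VE hV, mv a c = v := by
  obtain ⟨v0, hv0, e0⟩ := T.exists_moved hV
  have hw : ∀ x ∈ Subgroup.zpowers w, ∃ c ∈ V, mv a c = x := fun x hx => by
    rcases eq_one_or_of_mem_zpowers (hV.sq w T.w_mem) hx with h | h
    · exact ⟨1, V.one_mem, by rw [h]; simp [mv]⟩
    · exact ⟨v0, hv0, e0.trans h.symm⟩
  by_cases hvw : v ∈ Subgroup.zpowers w
  · obtain ⟨c, hc, h⟩ := hw v hvw
    exact ⟨c, E.le_VE hV hc, h⟩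
  · have hu : mv a e ∉ Subgroup.zpowers w := fun h => E.out (T.mem_of_mv hV E.mem h)
    have hm := mul_mem_of_card (T.zpowers_le_U hV) (by rw [T.card_U hV, T.card_zpowers hV])
      (T.mv_mem_U hV (E.central a)) hv hu hvw
    obtain ⟨c, hc, h⟩ := hw _ hm
    refine ⟨e * c, (E.VE hV).mul_mem (E.e_mem_VE hV) (E.le_VE hV hc), ?_⟩
    rw [mv_mul_of hV a (le_cen hV hc) (E.central a), h, ← mul_assoc, hV.sq _ (E.central a), one_mul]

/-- Correcting a conjugate of `a` by an element of `C(V)`. -/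
theorem correct (hV : Eight V) (T : Transv V a w) {x c k : S} (hc : c ∈ cen V) (hk : k ∈ V)
    (hx : x * a * x⁻¹ = a * k) (hck : mv a c = k) : (c⁻¹ * x) * a * (c⁻¹ * x)⁻¹ = a := by
  have hi : a⁻¹ = a := inv_eq_of_mul_eq_one_right T.sq
  have h1 : c * a * c⁻¹ = a * k := by
    have h := conj_eq a c
    rw [hck, hi, ← mem_cen.1 hc k hk] at h
    calc c * a * c⁻¹ = a * (a * c * a) * c⁻¹ := by simp only [← mul_assoc, T.sq, one_mul]
      _ = a * k := by rw [h, ← mul_assoc, mul_inv_cancel_right]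
  calc (c⁻¹ * x) * a * (c⁻¹ * x)⁻¹ = c⁻¹ * (x * a * x⁻¹) * c := by group
    _ = a := by rw [hx, ← h1]; group

/-- A transvection whose centralizer stops at a first layer with squares in its line. -/
theorem small_case (hS : IsPGroup 2 S) (F : Flag V c1 c2 c3) (hA : SelfCent A) (T : Transv V a w)
    (haA : a ∈ A) (hUA : T.U F.eight ≤ A) {e : S} (E : Layer V e) (hceq : cen V = E.VE F.eight)
    (hee : e * e ∈ Subgroup.zpowers w) (H : Subgroup S) : (sq H).relIndex H ≤ 16 := by
  have hV := F.eight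
  have hi : a⁻¹ = a := inv_eq_of_mul_eq_one_right T.sq
  have hc : ∀ x ∈ cen V, ∀ y ∈ cen V, x * y = y * x := fun x hx y hy =>
    E.comm_VE hV (hceq ▸ hx) (hceq ▸ hy)
  have hu : mv a e ∉ Subgroup.zpowers w := fun h => E.out (T.mem_of_mv hV E.mem h)
  have hwz : ∀ {x : S}, x ∈ Subgroup.zpowers w → x = 1 ∨ x = w := fun h =>
    eq_one_or_of_mem_zpowers (hV.sq w T.w_mem) h
  have ha3 : mv a c2 = 1 → mv a c3 = w := fun h2 => by
    rcases hwz (T.move c3 F.m3) with h | h
    · exact absurd (F.mem_cen_of_fix h2 h) T.notC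
    · exact h
  refine F.relIndex_le_sixteen hS (by rw [hceq, E.card_VE hV]) ?_ ?_ H
  · intro x hx hxV hfull
    by_cases h2 : mv a c2 = 1
    · obtain ⟨h, hh2, hh3, hhx⟩ := hfull _ (F.fix3 a)
      exact hxV (T.fix x hx (by rw [transfer hc (F.alike (hh2.trans h2.symm) hh3) hx, hhx]))
    have hac2 : mv a c2 = c1 := (F.fix2 a).resolve_left h2
    have hwc : w = c1 := by
      rcases hwz (T.move c2 F.m2) with h | h
      · exact absurd h h2
      · exact h.symm.trans hac2
    obtain ⟨h, hh2, hh3, hhx⟩ := hfull c1 (Or.inr (Or.inl rfl))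
    have ha3' : mv a c3 ∈ Subgroup.zpowers c1 := hwc ▸ T.move c3 F.m3
    have hfixa : ∀ y ∈ Subgroup.zpowers c1, ∀ s : S, s * y * s⁻¹ = y := fun y hy s => by
      rcases eq_one_or_of_mem_zpowers (hV.sq c1 F.m1) hy with e' | e' <;> rw [e']
      · rw [mul_one, mul_inv_cancel]
      · rw [conj_eq, F.fix1, mul_one]
    have hal : (h * a)⁻¹ * (a * h) ∈ cen V := F.alike
      (by rw [mv_comp, mv_comp, hh2, hac2, conj_eq, F.fix1, mul_one, one_mul, mul_one, mul_inv_cancel,
        mul_one])
      (by rw [mv_comp, mv_comp, hh3, hfixa _ ha3', hfixa _ (Subgroup.mem_zpowers c1)]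
          exact hV.comm c1 F.m1 _ (mv_mem hV a F.m3))
    have hu' : mv a x ∈ V := by
      by_cases hxe : x ∈ V
      · exact absurd hxe hxV
      · obtain ⟨v, hv, rfl⟩ := E.exists_eq hV (hceq ▸ hx) hxV
        rw [mv_mul_of hV a (le_cen hV hv) (E.central a)]
        exact V.mul_mem (E.central a) (mv_mem hV a hv)
    have e1 := transfer hc hal hx
    rw [mv_comp, mv_comp, hhx, one_mul, mul_one, mul_inv_cancel, mul_one, conj_eq] at e1
    have hfu : mv h (mv a x) = 1 := mul_eq_left.1 e1.symm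
    have hxu : mv a x ∉ Subgroup.zpowers w := fun h' => hxV (T.mem_of_mv hV hx h')
    have hxD : mv a x ∈ F.D := by
      by_contra hn
      have hm := mul_mem_of_card F.D_le (by rw [hV.card, F.card_D]) hu' F.m3 hn F.c3_notin
      have h1 : ∀ d ∈ F.D, mv h d = 1 := by
        rintro d (rfl | rfl | rfl | rfl)
        exacts [by simp [mv], F.fix1 h, hh2, by rw [mv_hom_mul hV h F.m1 F.m2, F.fix1, hh2, one_mul]]
      have := h1 _ hm
      rw [mv_hom_mul hV h hu' F.m3, hfu, one_mul, hh3] at this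
      exact F.ne1 this
    have hxf : mv a (mv a x) = 1 := ((T.mem_U hV).1 (T.mv_mem_U hV hu')).2
    rcases hxD with h' | h' | h' | h'
    · exact hxu (h' ▸ one_mem _)
    · exact hxu (h' ▸ hwc ▸ Subgroup.mem_zpowers w)
    · rw [h'] at hxf; exact h2 hxf
    · rw [h', mv_hom_mul hV a F.m1 F.m2, F.fix1, one_mul] at hxf
      exact h2 hxf
  · intro _ hfull
    by_cases hwc : w = c1
    · obtain ⟨h, h2, h3, hall⟩ := hfull _ (hwc ▸ T.move c2 F.m2) _ (hwc ▸ T.move c3 F.m3)
      refine hu ?_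
      rw [transfer hc (F.alike h2 h3) E.mem, hwc]
      exact hall e E.mem
    have h2 : mv a c2 = 1 := by
      rcases F.fix2 a with h | h
      · exact h
      · rcases hwz (T.move c2 F.m2) with h' | h'
        · exact h'
        · exact absurd (h'.symm.trans h) hwc
    have h3 := ha3 h2
    have hUD : T.U hV = F.D := by
      refine (Subgroup.eq_of_le_of_card_ge ?_ (by rw [T.card_U hV, F.card_D])).symm
      rintro d (rfl | rfl | rfl | rfl)
      exacts [one_mem _, (T.mem_U hV).2 ⟨F.m1, F.fix1 a⟩, (T.mem_U hV).2 ⟨F.m2, h2⟩,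
        (T.mem_U hV).2 ⟨V.mul_mem F.m1 F.m2, by rw [mv_hom_mul hV a F.m1 F.m2, F.fix1, h2, one_mul]⟩]
    obtain ⟨h, hh2, hh3, -⟩ := hfull 1 (one_mem _) c1 (Subgroup.mem_zpowers c1)
    have hhD : ∀ d ∈ F.D, mv h d = 1 := by
      rintro d (rfl | rfl | rfl | rfl)
      exacts [by simp [mv], F.fix1 h, hh2, by rw [mv_hom_mul hV h F.m1 F.m2, F.fix1, hh2, one_mul]]
    have hwD : w ∈ F.D := hUD ▸ T.zpowers_le_U hV (Subgroup.mem_zpowers w)
    have hal : (a * h)⁻¹ * (h * a) ∈ cen V := F.alike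
      (by rw [mv_comp, mv_comp, hh2, h2]; simp)
      (by rw [mv_comp, mv_comp, hh3, h3, conj_eq, conj_eq, hhD w hwD, F.fix1, mul_one, mul_one]
          exact hV.comm w T.w_mem c1 F.m1)
    set k := a * (h * a * h⁻¹) with hkdef
    have hkC : k ∈ cen V := by
      have := (cen_normal hV).conj_mem _ hal h
      rwa [show h * ((a * h)⁻¹ * (h * a)) * h⁻¹ = a⁻¹ * (h * a * h⁻¹) by group, hi] at this
    have hha : h * a * h⁻¹ = a * k := by rw [hkdef, ← mul_assoc, T.sq, one_mul]
    have hinv : a * k * a⁻¹ * k = 1 := by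
      rw [hi, mul_assoc, ← hha,
        show h * a * h⁻¹ * (h * a * h⁻¹) = h * (a * a) * h⁻¹ by group, T.sq, mul_one, mul_inv_cancel]
    rw [conj_eq] at hinv
    have hkU : k ∈ T.U hV := by
      by_cases hkV : k ∈ V
      · refine (T.mem_U hV).2 ⟨hkV, ?_⟩
        have hm := mv_mem hV a hkV
        rwa [hV.comm k hkV _ hm, mul_assoc, hV.sq k hkV, mul_one] at hinv
      · exfalso
        obtain ⟨v, hv, hkv⟩ := E.exists_eq hV (hceq ▸ hkC) hkV
        rw [hkv, mv_mul_of hV a (le_cen hV hv) (E.central a)] at hinv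
        set m := mv a e * mv a v with hm
        have hmV : m ∈ V := V.mul_mem (E.central a) (mv_mem hV a hv)
        have hev : e * v ∈ cen V := (cen V).mul_mem E.mem (le_cen hV hv)
        have h' : e * e * m = 1 := by
          calc e * e * m = e * v * (e * v) * m := by
                rw [show e * v * (e * v) = e * (v * e) * v by group, mem_cen.1 E.mem v hv,
                  show e * (e * v) * v = e * e * (v * v) by group, hV.sq v hv, mul_one]
            _ = e * v * (m * (e * v)) := by rw [mul_assoc (e * v) (e * v) m, mem_cen.1 hev m hmV]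
            _ = 1 := by rw [← mul_assoc]; exact hinv
        refine hu ?_
        have : mv a e = (e * e)⁻¹ * mv a v := by
          rw [← mul_one (e * e)⁻¹, ← h', inv_mul_cancel_left, hm, mul_assoc, hV.sq _ (mv_mem hV a hv),
            mul_one]
        rw [this]
        exact mul_mem (inv_mem hee) (T.move v hv)
    obtain ⟨c, hcVE, hck⟩ := cover hV T E hkU
    have hcC := E.VE_le_cen hV hcVE
    have hfix := correct hV T hcC (T.U_le hV hkU) hha hck
    have hmem := self_of_fix hV hA T haA hUA hfix fun u hu' => by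
      rw [mv_comp, hhD u (hUD ▸ hu')]
      simpa using mv_eq_one.2 (mem_cen.1 ((cen V).inv_mem hcC) u (T.U_le hV hu')).symm
    rcases mem_or_mul_mem hV hA T haA hUA hmem with h' | h'
    · have hh : h ∈ cen V := ((cen V).mul_mem_cancel_left ((cen V).inv_mem hcC)).1 (le_cen hV (T.U_le hV h'))
      exact F.ne1 (hh3.symm.trans (mv_eq_one.2 (mem_cen.1 hh c3 F.m3).symm))
    · set m := a * (c⁻¹ * h)
      have hmC : m ∈ cen V := le_cen hV (T.U_le hV h')
      have hh : h = c * (a * m) := by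
        show h = c * (a * (a * (c⁻¹ * h)))
        rw [← mul_assoc a a, T.sq, one_mul, mul_inv_cancel_left]
      have hcm : ∀ s ∈ cen V, ∀ y ∈ V, mv s y = 1 := fun s hs y hy =>
        mv_eq_one.2 (mem_cen.1 hs y hy).symm
      rw [hh, mv_comp, mv_comp, hcm c hcC c3 F.m3, hcm m hmC c3 F.m3, h3, one_mul, mul_one,
        mul_inv_cancel, mul_one, conj_eq, hcm c hcC w T.w_mem, mul_one] at hh3
      exact hwc hh3

/-- A cyclic subgroup of index at most two bounds the rank of all subgroups by two. -/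
theorem relIndex_sq_le_four_of_cyclic {P : Type*} [Group P] [Finite P] {Y : Subgroup P} [IsCyclic Y]
    (hY : Y.index ≤ 2) (W : Subgroup P) : (sq W).relIndex W ≤ 4 := by
  set W0 := W ⊓ Y
  have h0 : sq W0 ≤ sq W := sq_mono inf_le_left
  refine (Nat.le_of_dvd (relIndex_pos _ _) (Subgroup.relIndex_dvd_of_le_left W h0)).trans ?_
  rw [← Subgroup.relIndex_mul_relIndex (sq W0) W0 W (sq_le W0) inf_le_left]
  have h1 : W0.relIndex W ≤ 2 := by
    rw [show W0 = Y ⊓ W from inf_comm _ _, Subgroup.inf_relIndex_right]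
    refine (Subgroup.relIndex_le_of_le_right le_top Subgroup.index_ne_zero_of_finite).trans ?_
    rwa [Subgroup.relIndex_top_right]
  obtain ⟨g, hg⟩ : ∃ g : P, Subgroup.zpowers g = W0 := by
    haveI : IsCyclic W0 := Subgroup.isCyclic_of_le (inf_le_right : W0 ≤ Y)
    obtain ⟨g, hg⟩ := IsCyclic.exists_generator (α := W0)
    refine ⟨g, le_antisymm (Subgroup.zpowers_le.2 g.2) fun x hx => ?_⟩
    obtain ⟨k, hk⟩ := Subgroup.mem_zpowers_iff.1 (hg ⟨x, hx⟩)
    exact Subgroup.mem_zpowers_iff.2 ⟨k, congrArg Subtype.val hk⟩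
  have h2 : (sq W0).relIndex W0 ≤ 2 := by
    have hle : Subgroup.zpowers (g ^ 2) ≤ sq W0 :=
      Subgroup.zpowers_le.2 (sq_mem (hg ▸ Subgroup.mem_zpowers g))
    refine (Nat.le_of_dvd (relIndex_pos _ _) (Subgroup.relIndex_dvd_of_le_left W0 hle)).trans ?_
    have hc := relIndex_mul_card (hle.trans (sq_le W0))
    have hcW : Nat.card W0 = orderOf g := by rw [← hg, Nat.card_zpowers]
    rw [Nat.card_zpowers, orderOf_pow, hcW] at hc
    have hgcd : Nat.gcd (orderOf g) 2 ≤ 2 := Nat.gcd_le_right _ two_pos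
    have hdvd := Nat.gcd_dvd_left (orderOf g) 2
    have hd : orderOf g / Nat.gcd (orderOf g) 2 * Nat.gcd (orderOf g) 2 = orderOf g :=
      Nat.div_mul_cancel hdvd
    have hpos : 0 < orderOf g / Nat.gcd (orderOf g) 2 :=
      Nat.div_pos (Nat.le_of_dvd (orderOf_pos g) hdvd) (Nat.gcd_pos_of_pos_right _ two_pos)
    rw [Nat.eq_of_mul_eq_mul_right hpos
      (hc.trans (hd.symm.trans (mul_comm _ _)))]
    exact hgcd
  calc _ ≤ 2 * 2 := Nat.mul_le_mul h2 h1
    _ = 4 := by norm_num

/-- A transvection with a first layer whose squares leave its line: the quotient is of maximal class. -/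
theorem square_case (hS : IsPGroup 2 S) (hV : Eight V) (hA : SelfCent A) (T : Transv V a w)
    (haA : a ∈ A) (hUA : T.U hV ≤ A) {e : S} (E : Layer V e) (hee : e * e ∉ Subgroup.zpowers w)
    (H : Subgroup S) : (sq H).relIndex H ≤ 16 := by
  classical
  haveI := hV.normal
  haveI : Fact (Nat.Prime 2) := ⟨Nat.prime_two⟩
  set q := e * e with hq
  set π := QuotientGroup.mk' V
  have hqU : q ∈ T.U hV := (T.mem_U hV).2 ⟨E.sq, E.sq_fixed hV a⟩
  have hi : a⁻¹ = a := inv_eq_of_mul_eq_one_right T.sq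
  have hone : ∀ x : S, π x = 1 ↔ x ∈ V := fun x => QuotientGroup.eq_one_iff x
  have hec : π e ∈ Subgroup.center (S ⧸ V) := by
    refine Subgroup.mem_center_iff.2 fun y => ?_
    obtain ⟨s, rfl⟩ := QuotientGroup.mk'_surjective V y
    have h := congrArg π (conj_eq s e)
    rw [map_mul π e (mv s e), (hone _).2 (E.central s), mul_one, map_mul, map_mul, map_inv] at h
    exact mul_inv_eq_iff_eq_mul.1 h
  have he2 : π e * π e = 1 := by rw [← map_mul]; exact (hone _).2 E.sq
  have ha2 : π a * π a = 1 := by rw [← map_mul, T.sq, map_one]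
  have hae : π e * π a = π a * π e := (Subgroup.mem_center_iff.1 hec (π a)).symm
  have he1 : π e ≠ 1 := fun h => E.out ((hone e).1 h)
  have ha1 : π a ≠ 1 := fun h => T.notC (le_cen hV ((hone a).1 h))
  have hea : π e ≠ π a := fun h => T.notC (by
    have h' : e⁻¹ * a ∈ V := (hone _).1 (by rw [map_mul, map_inv, h, inv_mul_cancel])
    exact ((cen V).mul_mem_cancel_left ((cen V).inv_mem E.mem)).1 (le_cen hV h'))
  -- the centralizer of the image of `a`
  have key : ∀ x : S, a * (x * a * x⁻¹) ∈ V → x ∈ E.VE hV ∨ a * x ∈ E.VE hV := by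
    intro x hx
    set v := a * (x * a * x⁻¹) with hv
    have hxa : x * a * x⁻¹ = a * v := by rw [hv, ← mul_assoc, T.sq, one_mul]
    obtain ⟨v0, hv0, e0⟩ := T.exists_moved hV
    have hxw : mv x w = 1 := by
      have h1 : x * w * x⁻¹ = mv (a * v) (x * v0 * x⁻¹) := by
        rw [← hxa, ← e0]; simp only [mv]; group
      rw [mv_comp, mv_eq_one.2 (hV.comm v hx _ (hV.normal.conj_mem v0 hv0 x)), mul_one, mul_inv_cancel,
        mul_one] at h1
      rcases eq_one_or_of_mem_zpowers (hV.sq w T.w_mem) (h1 ▸ T.move _ (hV.normal.conj_mem v0 hv0 x) :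
          x * w * x⁻¹ ∈ Subgroup.zpowers w) with h | h
      · exact absurd (conj_eq_one_iff.1 h) T.w_ne
      · rw [mv, h, inv_mul_cancel]
    have hxU : ∀ u ∈ T.U hV, mv x u = 1 := by
      have hz : ∀ y ∈ Subgroup.zpowers w, mv x y = 1 := fun y hy => by
        rcases eq_one_or_of_mem_zpowers (hV.sq w T.w_mem) hy with h | h <;> rw [h]
        · simp [mv]
        · exact hxw
      intro u hu
      by_cases huw : u ∈ Subgroup.zpowers w
      · exact hz u huw
      · have hm := mul_mem_of_card (T.zpowers_le_U hV) (by rw [T.card_U hV, T.card_zpowers hV])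
          hu hqU huw hee
        have h := hz _ hm
        rwa [mv_hom_mul hV x (T.U_le hV hu) E.sq, E.sq_fixed hV x, mul_one] at h
    have hvU : v ∈ T.U hV := by
      refine (T.mem_U hV).2 ⟨hx, ?_⟩
      have h : a * v * a⁻¹ * v = 1 := by
        rw [hi, mul_assoc, ← hxa,
          show x * a * x⁻¹ * (x * a * x⁻¹) = x * (a * a) * x⁻¹ by group, T.sq, mul_one, mul_inv_cancel]
      rwa [conj_eq, hV.comm v hx _ (mv_mem hV a hx), mul_assoc, hV.sq v hx, mul_one] at h
    obtain ⟨c, hcVE, hck⟩ := cover hV T E hvU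
    have hcC := E.VE_le_cen hV hcVE
    have hmem := self_of_fix hV hA T haA hUA (correct hV T hcC hx hxa hck) fun u hu => by
      rw [mv_comp, hxU u hu]
      simpa using mv_eq_one.2 (mem_cen.1 ((cen V).inv_mem hcC) u (T.U_le hV hu)).symm
    rcases mem_or_mul_mem hV hA T haA hUA hmem with h | h
    · left
      have := (E.VE hV).mul_mem hcVE (E.le_VE hV (T.U_le hV h))
      rwa [mul_inv_cancel_left] at this
    · right
      have h' := (E.VE hV).mul_mem ((E.VE_normal hV).conj_mem c hcVE a) (E.le_VE hV (T.U_le hV h))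
      rwa [show a * c * a⁻¹ * (a * (c⁻¹ * x)) = a * x by group] at h'
  have hvee : ∀ x ∈ E.VE hV, π x = 1 ∨ π x = π e := fun x hx => by
    by_cases hxV : x ∈ V
    · exact Or.inl ((hone x).2 hxV)
    · obtain ⟨v, hv, rfl⟩ := E.exists_eq hV hx hxV
      exact Or.inr (by rw [map_mul, (hone v).2 hv, mul_one])
  have hcent : Subgroup.centralizer ({π a} : Set (S ⧸ V)) = four he2 ha2 hae := by
    refine le_antisymm (fun y hy => ?_) ?_
    · obtain ⟨x, rfl⟩ := QuotientGroup.mk'_surjective V y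
      have hc : π a * π x = π x * π a :=
        Subgroup.mem_centralizer_iff.1 hy (π a) rfl
      have hx : a * (x * a * x⁻¹) ∈ V := (hone _).1 (by
        rw [map_mul, map_mul, map_mul, map_inv, ← hc, mul_inv_cancel_right, ha2])
      rcases key x hx with h | h
      · rcases hvee x h with h' | h'
        exacts [Or.inl h', Or.inr (Or.inl h')]
      · have hx' : π x = π a * π (a * x) := by rw [map_mul, ← mul_assoc, ha2, one_mul]
        rcases hvee _ h with h' | h'
        · exact Or.inr (Or.inr (Or.inl (by rw [hx', h', mul_one])))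
        · exact Or.inr (Or.inr (Or.inr (by rw [hx', h', hae])))
    · rintro y (rfl | rfl | rfl | rfl) <;> rw [Subgroup.mem_centralizer_iff] <;>
        intro z hz <;> rw [Set.mem_singleton_iff.1 hz]
      · rw [mul_one, one_mul]
      · exact hae.symm
      · rw [← mul_assoc, ← hae, mul_assoc]
  obtain ⟨Y, hYc, hY⟩ : ∃ Y : Subgroup (S ⧸ V), IsCyclic Y ∧ Y.index ≤ 2 := by
    obtain ⟨n, hn⟩ := IsPGroup.iff_card.1 (hS.to_quotient V)
    set A' := Subgroup.centralizer ({π a} : Set (S ⧸ V))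
    have hA4 : Nat.card A' = 2 ^ 2 := by rw [hcent, card_four he1 ha1 hea]; norm_num
    have hn2 : 2 ≤ n := by
      have h := Subgroup.card_subgroup_dvd_card A'
      rw [hA4, hn] at h
      exact (Nat.pow_dvd_pow_iff_le_right Nat.one_lt_two).1 h
    rcases hn2.eq_or_lt with h2 | h3
    · refine ⟨Subgroup.zpowers (π e), inferInstance, ?_⟩
      have h := Subgroup.card_mul_index (Subgroup.zpowers (π e))
      rw [hn, ← h2, Nat.card_zpowers, orderOf_eq_prime (p := 2) (by rw [pow_two]; exact he2) he1] at h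
      omega
    · have hAc := IsPGroup.commutative_of_card_eq_prime_sq hA4
      have haA' : π a ∈ A' := Subgroup.mem_centralizer_singleton_iff.2 rfl
      have hCA : Subgroup.centralizer (A' : Set (S ⧸ V)) = A' :=
        le_antisymm (fun x hx => Subgroup.mem_centralizer_singleton_iff.2
          (Subgroup.mem_centralizer_iff.1 hx _ haA').symm) (fun x hx => Subgroup.mem_centralizer_iff.2
          fun y hy => congrArg Subtype.val (hAc (⟨y, hy⟩ : A') ⟨x, hx⟩))
      obtain ⟨Y, hYc, hYi⟩ := CfsgLib.Transfer.exists_cyclic_index_two_of_class h3 hn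
        (CfsgLib.Transfer.class_eq_of_self_centralizing n (S ⧸ V) hn A' hA4 hCA)
      exact ⟨Y, hYc, hYi.le⟩
  haveI := hYc
  have hR := relIndex_count π (sq_le H)
  have hker : π.ker = V := QuotientGroup.ker_mk' _
  rw [hker, map_sq π H] at hR
  set b := (sq (H.map π)).relIndex (H.map π)
  have hb : b ≤ 4 := relIndex_sq_le_four_of_cyclic hY _
  have hc := relIndex_mul_card (inf_le_inf_right V (sq_le H))
  have hle8 : Nat.card (H ⊓ V : Subgroup S) ≤ 8 := (Subgroup.card_le_of_le inf_le_right).trans hV.card.le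
  by_contra hcon
  have hpos : 0 < Nat.card (sq H ⊓ V : Subgroup S) := Nat.card_pos
  obtain ⟨k, hk⟩ := relIndex_sq_pow_two hS H
  have hk5 : 5 ≤ k := by
    by_contra h
    exact hcon (hk.trans_le ((Nat.pow_le_pow_right two_pos (show k ≤ 4 by omega)).trans (by norm_num)))
  have hR32 : 32 ≤ (sq H).relIndex H :=
    le_trans (le_trans (by norm_num) (Nat.pow_le_pow_right two_pos hk5)) hk.ge
  rw [hR] at hR32
  have h0 : sq H ⊓ V = ⊥ := Subgroup.card_eq_one.1 (by nlinarith)
  rw [h0, Subgroup.card_bot, mul_one] at hc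
  have hb4 : b = 4 := by rw [h0] at hR32; nlinarith
  have hVH : V ≤ H := inf_eq_right.1 (Subgroup.eq_of_le_of_card_ge inf_le_right (by
    rw [hV.card]; rw [h0] at hR32; nlinarith))
  by_cases heH : π e ∈ H.map π
  · obtain ⟨h, hh, he⟩ := heH
    have heh : h⁻¹ * e ∈ V := (hone _).1 (by rw [map_mul, map_inv, he, inv_mul_cancel])
    have he' : e ∈ H := by
      have := H.mul_mem hh (hVH heh)
      rwa [mul_inv_cancel_left] at this
    have hq0 : q ∈ sq H ⊓ V := ⟨by rw [hq, ← pow_two]; exact sq_mem he', E.sq⟩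
    rw [h0, Subgroup.mem_bot] at hq0
    exact hee (hq0 ▸ one_mem _)
  · haveI : (Subgroup.zpowers (π e)).Normal := ⟨fun n hn g => by
      obtain ⟨i, rfl⟩ := Subgroup.mem_zpowers_iff.1 hn
      have := Subgroup.mem_center_iff.1 ((Subgroup.center (S ⧸ V)).zpow_mem hec i) g
      rw [this, mul_inv_cancel_right]; exact hn⟩
    set W := H.map π
    set W' := W ⊔ Subgroup.zpowers (π e)
    have hsq : sq W' ≤ sq W := by
      refine (Subgroup.closure_le _).2 ?_
      rintro _ ⟨x, hx, rfl⟩
      obtain ⟨u, hu, z, hz, rfl⟩ := Subgroup.mem_sup_of_normal_right.1 hx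
      rcases eq_one_or_of_mem_zpowers he2 hz with rfl | rfl
      · rw [mul_one]; exact sq_mem hu
      · rw [(show Commute u (π e) from Subgroup.mem_center_iff.1 hec u).mul_pow, pow_two (π e), he2, mul_one]
        exact sq_mem hu
    have hlt : 2 * Nat.card W ≤ Nat.card W' := by
      have h1 := relIndex_mul_card (le_sup_left : W ≤ W')
      have h2 : W.relIndex W' ≠ 1 := fun h =>
        heH (Subgroup.relIndex_eq_one.1 h (Subgroup.mem_sup_right (Subgroup.mem_zpowers _)))
      have h3 := relIndex_pos W W'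
      have h4 : 2 ≤ W.relIndex W' := Nat.lt_of_le_of_ne h3 (Ne.symm h2)
      rw [← h1]
      exact Nat.mul_le_mul_right _ h4
    have h1 := relIndex_mul_card (sq_le W')
    have h2 := relIndex_mul_card (sq_le W)
    change b * Nat.card (sq W) = Nat.card W at h2
    have h4 := relIndex_sq_le_four_of_cyclic hY W'
    have h5 := Subgroup.card_le_of_le hsq
    have h6 : 0 < Nat.card (sq W) := Nat.card_pos
    nlinarith

end CfsgLib.TwoGroups.SelfCentEight
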