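import Cfsg.Agent.Lib.TwoGroups.SelfCentEight.Sixteen
import Cfsg.Agent.Lib.TwoGroups.SelfCentEight.Cases
import Cfsg.Prelude.Def_Transfer
import Cfsg.Prelude.Def_TwoFusion
import Mathlib.GroupTheory.SpecificGroups.Dihedral
import Mathlib.GroupTheory.SpecificGroups.KleinFour
import Mathlib.GroupTheory.Sylow

/-!
A dihedral or quasi-dihedral group times a four-group whose involutions have centralizers no larger:
the 2-group has sectional rank at most four, and so has any finite group with such a Sylow 2-subgroup.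
-/

set_option autoImplicit false
set_option linter.style.haveILetI false
set_option linter.unusedSectionVars false

namespace CfsgLib.TwoGroups.SelfCentEight

open CfsgLib.TwoGroups.NormalRankTwo

/-- A cyclic subgroup of index two, and either a four-group or an element not centralizing it. -/
def Shape (D : Type*) [Group D] : Prop :=
  ∃ a : D, (Subgroup.zpowers a).index ≤ 2 ∧
    ((Nat.card D = 4 ∧ ∀ d : D, d * d = 1) ∨ ∃ b : D, b * a * b⁻¹ ≠ a)

theorem shape_of_equiv {D E : Type*} [Group D] [Group E] (e : D ≃* E) (h : Shape E) : Shape D := by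
  obtain ⟨a, ha, h⟩ := h
  refine ⟨e.symm a, ?_, ?_⟩
  · rw [show e.symm a = e.symm.toMonoidHom a from rfl, ← MonoidHom.map_zpowers,
      Subgroup.index_map_of_bijective (f := e.symm.toMonoidHom) e.symm.bijective]
    exact ha
  · rcases h with ⟨h4, h2⟩ | ⟨b, hb⟩
    · exact Or.inl ⟨(Nat.card_congr e.toEquiv).trans h4, fun d => e.injective (by rw [map_mul, map_one, h2])⟩
    · exact Or.inr ⟨e.symm b, fun h => hb (e.symm.injective (by simpa using h))⟩

theorem shape_dihedral {m : ℕ} (hm : 2 ≤ m) : Shape (DihedralGroup m) := by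
  haveI : NeZero m := ⟨by omega⟩
  refine ⟨DihedralGroup.r 1, ?_, ?_⟩
  · have h := Subgroup.card_mul_index (Subgroup.zpowers (DihedralGroup.r (1 : ZMod m)))
    rw [Nat.card_zpowers, DihedralGroup.orderOf_r_one, DihedralGroup.nat_card] at h
    exact le_of_eq (Nat.eq_of_mul_eq_mul_left (by omega) (h.trans (mul_comm _ _)))
  · rcases hm.eq_or_lt with h | h
    · subst h
      refine Or.inl ⟨by rw [DihedralGroup.nat_card], ?_⟩
      decide
    · refine Or.inr ⟨DihedralGroup.sr 0, fun hh => ?_⟩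
      rw [DihedralGroup.inv_sr, DihedralGroup.sr_mul_r, DihedralGroup.sr_mul_sr] at hh
      have h' := DihedralGroup.r.inj hh
      have h2 : ((2 : ℕ) : ZMod m) = 0 := by
        push_cast
        calc (2 : ZMod m) = 1 - (0 - (0 + 1)) := by ring
          _ = 0 := by rw [h', sub_self]
      have := Nat.le_of_dvd two_pos ((ZMod.natCast_eq_zero_iff 2 m).1 h2)
      omega

theorem shape_quasiDihedral {D : Type*} [Group D] (h : Cfsg.IsQuasiDihedral D) : Shape D := by
  obtain ⟨n, hn, hcard, x, y, hx, -, hxy⟩ := h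
  refine ⟨x, ?_, Or.inr ⟨y, fun hh => ?_⟩⟩
  · have h := Subgroup.card_mul_index (Subgroup.zpowers x)
    rw [Nat.card_zpowers, hx, hcard, pow_succ] at h
    exact le_of_eq (Nat.eq_of_mul_eq_mul_left (pow_pos two_pos n) h)
  · rw [hxy] at hh
    have h4 : 4 ≤ 2 ^ (n - 1) :=
      le_trans (by norm_num) (Nat.pow_le_pow_right two_pos (show 2 ≤ n - 1 by omega))
    have h2 : 2 ^ n = 2 * 2 ^ (n - 1) := by rw [← pow_succ']; congr 1; omega
    have h1 : x ^ (2 ^ (n - 1) - 1) = x ^ 1 := by rw [pow_one]; exact hh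
    rw [pow_inj_mod, hx, h2, Nat.mod_eq_of_lt (by omega), Nat.mod_eq_of_lt (by omega)] at h1
    omega

variable {P : Type*} [Group P] [Finite P]

/-- `D` has only one central involution. -/
theorem central_involution_unique {D : Subgroup P} {a : D} (ha : (Subgroup.zpowers a).index ≤ 2)
    {b : D} (hb : b * a * b⁻¹ ≠ a) {c c' : D} (hc : ∀ d : D, d * c = c * d) (hc' : ∀ d : D, d * c' = c' * d)
    (hc2 : c * c = 1) (hc'2 : c' * c' = 1) (h1 : c ≠ 1) (h1' : c' ≠ 1) : c = c' := by
  classical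
  have hin : ∀ e : D, (∀ d : D, d * e = e * d) → e ∈ Subgroup.zpowers a := by
    intro e he
    by_contra hn
    have hbA : b ∉ Subgroup.zpowers a := fun h => by
      obtain ⟨i, rfl⟩ := Subgroup.mem_zpowers_iff.1 h
      exact hb (by rw [(Commute.zpow_self a i).eq, mul_inv_cancel_right])
    have hidx : (Subgroup.zpowers a).index = 2 := by
      have h0 : (Subgroup.zpowers a).index ≠ 0 := Subgroup.index_ne_zero_of_finite
      have h1 : (Subgroup.zpowers a).index ≠ 1 := fun h => hn (Subgroup.index_eq_one.1 h ▸ Subgroup.mem_top e)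
      omega
    have hm : b * e⁻¹ ∈ Subgroup.zpowers a :=
      (Subgroup.mul_mem_iff_of_index_two hidx).2
        ⟨fun h => absurd h hbA, fun h => absurd (inv_mem_iff.1 h) hn⟩
    obtain ⟨i, hi⟩ := Subgroup.mem_zpowers_iff.1 hm
    have hb' : b = a ^ i * e := by rw [hi, inv_mul_cancel_right]
    refine hb ?_
    rw [hb']
    calc a ^ i * e * a * (a ^ i * e)⁻¹ = a ^ i * (a * e) * (a ^ i * e)⁻¹ := by rw [he a]; group
      _ = a ^ i * a * e * (a ^ i * e)⁻¹ := by group
      _ = a := by rw [(Commute.zpow_self a i).eq]; group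
  haveI : Fintype (Subgroup.zpowers a) := Fintype.ofFinite _
  have hle := IsCyclic.card_pow_eq_one_le (α := Subgroup.zpowers a) (n := 2) two_pos
  by_contra hne
  have hsub : ({1, ⟨c, hin c hc⟩, ⟨c', hin c' hc'⟩} : Finset (Subgroup.zpowers a)) ⊆
      Finset.univ.filter (fun x : Subgroup.zpowers a => x ^ 2 = 1) := by
    intro x hx
    simp only [Finset.mem_insert, Finset.mem_singleton] at hx
    rw [Finset.mem_filter]
    refine ⟨Finset.mem_univ _, Subtype.ext ?_⟩
    rcases hx with rfl | rfl | rfl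
    · simp
    · show c ^ 2 = 1; rw [pow_two]; exact hc2
    · show c' ^ 2 = 1; rw [pow_two]; exact hc'2
  have h3 : ({1, ⟨c, hin c hc⟩, ⟨c', hin c' hc'⟩} : Finset (Subgroup.zpowers a)).card = 3 := by
    rw [Finset.card_insert_of_notMem, Finset.card_pair]
    · exact fun h => hne (congrArg Subtype.val h)
    · simp only [Finset.mem_insert, Finset.mem_singleton, not_or]
      exact ⟨fun h => h1 (congrArg Subtype.val h).symm, fun h => h1' (congrArg Subtype.val h).symm⟩
  have := Finset.card_le_card hsub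
  omega

/-- The 2-group statement. -/
theorem bound_byFour (hP : IsPGroup 2 P) {T D B : Subgroup P} (hD : Shape D) (hDT : D ≤ T) (hBT : B ≤ T)
    (hcomm : ∀ d ∈ D, ∀ b ∈ B, d * b = b * d) (hinf : D ⊓ B = ⊥) (hsup : D ⊔ B = T)
    (hBc : ∀ a ∈ B, ∀ b ∈ B, a * b = b * a) (hB2 : ∀ b ∈ B, b * b = 1) (hB4 : Nat.card B = 4)
    (hself : ∀ b ∈ B, b ≠ 1 → ∀ s : P, s * b = b * s → s ∈ T) (H : Subgroup P) :
    (sq H).relIndex H ≤ 16 := by
  classical
  haveI : Fact (Nat.Prime 2) := ⟨Nat.prime_two⟩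
  have hmulT : ∀ u ∈ T, ∃ d ∈ D, ∃ b ∈ B, d * b = u := by
    intro u hu
    have hu' : u ∈ ((D ⊔ B : Subgroup P) : Set P) := hsup.ge hu
    rw [Subgroup.coe_mul_of_right_le_normalizer_left _ _ (fun b hb => Subgroup.centralizer_le_normalizer _
      (Subgroup.mem_centralizer_iff.2 fun d hd => hcomm d hd b hb))] at hu'
    exact hu'
  have hBT' : ∀ b ∈ B, ∀ u ∈ T, u * b = b * u := by
    intro b hb u hu
    obtain ⟨d, hd, c, hc, rfl⟩ := hmulT u hu
    rw [mul_assoc, hBc c hc b hb, ← mul_assoc, hcomm d hd b hb, mul_assoc]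
  obtain ⟨a, ha, hshape⟩ := hD
  by_cases hT : T = ⊤
  · -- the whole group is the direct product
    haveI hBn : B.Normal := ⟨fun b hb g => by
      rw [hBT' b hb g (hT ▸ Subgroup.mem_top g), mul_inv_cancel_right]; exact hb⟩
    set π := QuotientGroup.mk' B
    have hker : π.ker = B := QuotientGroup.ker_mk' _
    let ψ : D →* P ⧸ B := π.comp D.subtype
    have hψ : Function.Surjective ψ := by
      intro y
      obtain ⟨u, rfl⟩ := QuotientGroup.mk'_surjective B y
      obtain ⟨d, hd, b, hb, rfl⟩ := hmulT u (hT ▸ Subgroup.mem_top u)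
      refine ⟨⟨d, hd⟩, ?_⟩
      show π d = π (d * b)
      rw [map_mul, show π b = 1 from (QuotientGroup.eq_one_iff b).2 hb, mul_one]
    haveI : IsCyclic ((Subgroup.zpowers a).map ψ) := by
      rw [MonoidHom.map_zpowers]; infer_instance
    have hY : ((Subgroup.zpowers a).map ψ).index ≤ 2 :=
      (Nat.le_of_dvd (Nat.pos_of_ne_zero Subgroup.index_ne_zero_of_finite)
        (Subgroup.index_map_dvd _ hψ)).trans ha
    have hR := relIndex_count π (sq_le H)
    rw [hker, map_sq π H] at hR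
    have h1 := relIndex_sq_le_four_of_cyclic hY (H.map π)
    have h2 := relIndex_mul_card (inf_le_inf_right B (sq_le H))
    have h3 := Subgroup.card_le_of_le (inf_le_right : H ⊓ B ≤ B)
    rw [hB4] at h3
    have h4 : 0 < Nat.card (sq H ⊓ B : Subgroup P) := Nat.card_pos
    have h5 : (sq H ⊓ B).relIndex (H ⊓ B) ≤ 4 := by
      refine le_trans ?_ h3
      rw [← h2]
      exact Nat.le_mul_of_pos_right _ h4
    rw [hR]
    exact (Nat.mul_le_mul h5 h1).trans (by norm_num)
  rcases hshape with ⟨hD4, hD2⟩ | ⟨b0, hb0⟩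
  · -- `T` is elementary abelian of order sixteen
    have hDc : ∀ c ∈ D, ∀ d ∈ D, c * d = d * c := fun c hc d hd => by
      have h := inv_eq_of_mul_eq_one_right (congrArg Subtype.val (hD2 (⟨c, hc⟩ * ⟨d, hd⟩)) :
        (c * d) * (c * d) = 1)
      rw [mul_inv_rev, inv_eq_of_mul_eq_one_right (congrArg Subtype.val (hD2 ⟨c, hc⟩) : c * c = 1),
        inv_eq_of_mul_eq_one_right (congrArg Subtype.val (hD2 ⟨d, hd⟩) : d * d = 1)] at h
      exact h.symm
    have hTc : ∀ u ∈ T, ∀ v ∈ T, u * v = v * u := by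
      intro u hu v hv
      obtain ⟨d, hd, b, hb, rfl⟩ := hmulT v hv
      have hud : u * d = d * u := by
        obtain ⟨c, hc, b', hb', rfl⟩ := hmulT u hu
        rw [mul_assoc, ← hcomm d hd b' hb', ← mul_assoc, hDc c hc d hd, mul_assoc]
      rw [← mul_assoc, hud, mul_assoc, hBT' b hb u hu, ← mul_assoc]
    have hT2 : ∀ u ∈ T, u * u = 1 := by
      intro u hu
      obtain ⟨d, hd, b, hb, rfl⟩ := hmulT u hu
      rw [show d * b * (d * b) = d * (b * d) * b by group, ← hcomm d hd b hb,
        show d * (d * b) * b = (d * d) * (b * b) by group, hB2 b hb,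
        (show d * d = 1 from congrArg Subtype.val (hD2 ⟨d, hd⟩)), one_mul]
    have hT16 : Nat.card T = 16 := by
      refine le_antisymm ?_ ?_
      · have : Nat.card T ≤ Nat.card (D × B) := Nat.card_le_card_of_surjective
          (fun p : D × B => (⟨(p.1 : P) * p.2, T.mul_mem (hDT p.1.2) (hBT p.2.2)⟩ : T)) fun u => by
            obtain ⟨d, hd, b, hb, e⟩ := hmulT u u.2
            exact ⟨(⟨d, hd⟩, ⟨b, hb⟩), Subtype.ext e⟩
        rwa [Nat.card_prod, hD4, hB4] at this
      · have := card_mul_card_le hDT hBT hinf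
        rwa [hD4, hB4] at this
    exact (Sixteen.mk hTc hT2 hT16 hBT hB4 hself).bound hP H
  · -- otherwise `T` is the whole group
    exfalso
    obtain ⟨z, hz, hz1, hz2⟩ : ∃ z : D, (∀ d : D, d * z = z * d) ∧ z ≠ 1 ∧ z * z = 1 := by
      haveI : Nontrivial D := ⟨⟨_, _, hb0⟩⟩
      have hc := (hP.to_subgroup D).center_nontrivial
      have hdvd : 2 ∣ Nat.card (Subgroup.center D) := by
        rcases ((hP.to_subgroup D).to_subgroup (Subgroup.center D)).card_eq_or_dvd with h | h
        · exact absurd h (ne_of_gt Finite.one_lt_card)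
        · exact h
      obtain ⟨⟨z, hz⟩, hzo⟩ := exists_prime_orderOf_dvd_card' 2 hdvd
      refine ⟨z, Subgroup.mem_center_iff.1 hz, fun h => ?_, ?_⟩
      · subst h
        have : (⟨1, hz⟩ : Subgroup.center D) = 1 := rfl
        rw [this, orderOf_one] at hzo
        omega
      · have := congrArg Subtype.val (orderOf_dvd_iff_pow_eq_one.1 hzo.dvd)
        rw [pow_two] at this
        exact this
    let L : Subgroup P :=
      { carrier := {u | u ∈ T ∧ (∀ v ∈ T, v * u = u * v) ∧ u * u = 1}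
        one_mem' := ⟨T.one_mem, fun v _ => by rw [mul_one, one_mul], one_mul 1⟩
        mul_mem' := by
          rintro u v ⟨hu, huc, hu2⟩ ⟨hv, hvc, hv2⟩
          refine ⟨T.mul_mem hu hv, fun x hx => ?_, ?_⟩
          · rw [← mul_assoc, huc x hx, mul_assoc, hvc x hx, mul_assoc]
          · rw [show u * v * (u * v) = u * (v * u) * v by group, huc v hv,
              show u * (u * v) * v = u * u * (v * v) by group, hu2, hv2, one_mul]
        inv_mem' := by
          rintro u ⟨hu, huc, hu2⟩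
          rw [inv_eq_of_mul_eq_one_right hu2]
          exact ⟨hu, huc, hu2⟩ }
    have hBL : B ≤ L := fun b hb => ⟨hBT hb, hBT' b hb, hB2 b hb⟩
    have hzT : (z : P) ∈ T := hDT z.2
    have hzL : (z : P) ∈ L := ⟨hzT, fun v hv => by
      obtain ⟨d, hd, b, hb, rfl⟩ := hmulT v hv
      rw [mul_assoc, ← hcomm z z.2 b hb, ← mul_assoc, (show d * (z : P) = z * d from congrArg Subtype.val (hz ⟨d, hd⟩)),
        mul_assoc], congrArg Subtype.val hz2⟩
    have hzB : (z : P) ∉ B := fun h => hz1 (Subtype.ext (Subgroup.mem_bot.1 (hinf ▸ (⟨z.2, h⟩ : (z : P) ∈ D ⊓ B))))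
    have hLidx : B.relIndex L = 2 := by
      rw [Subgroup.relIndex, Subgroup.index_eq_two_iff]
      refine ⟨⟨z, hzL⟩, fun u => ?_⟩
      show Xor ((u : P) * z ∈ B) ((u : P) ∈ B)
      by_cases hu : (u : P) ∈ B
      · exact Or.inr ⟨hu, fun h => hzB ((B.mul_mem_cancel_left hu).1 h)⟩
      · refine Or.inl ⟨?_, hu⟩
        obtain ⟨huT, huc, hu2⟩ := u.2
        obtain ⟨d, hd, b, hb, e⟩ := hmulT u huT
        have hd' : d = (u : P) * b := by rw [← e, mul_assoc, hB2 b hb, mul_one]
        have hdL : d ∈ L := hd' ▸ L.mul_mem u.2 (hBL hb)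
        have hd1 : (⟨d, hd⟩ : D) ≠ 1 := fun h => hu (by
          have h' : d = 1 := congrArg Subtype.val h
          rw [← e, h', one_mul]; exact hb)
        have hdz := central_involution_unique ha hb0
          (fun c => Subtype.ext (hdL.2.1 c (hDT c.2))) hz (Subtype.ext hdL.2.2) hz2 hd1 hz1
        have hdz' : d = (z : P) := congrArg Subtype.val hdz
        rw [← e, hdz', mul_assoc, ← hcomm z z.2 b hb, ← mul_assoc,
          (show (z : P) * z = 1 from congrArg Subtype.val hz2), one_mul]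
        exact hb
    have hL8 : Nat.card L = 8 := by rw [← relIndex_mul_card hBL, hLidx, hB4]
    -- an element normalizing `T` with square in `T`
    haveI := hP.isNilpotent
    obtain ⟨s0, hs0, hs0T⟩ := SetLike.exists_of_lt
      (Group.normalizerCondition_of_isNilpotent T (lt_top_iff_ne_top.2 hT))
    obtain ⟨k, hk⟩ := hP s0
    have hex : ∃ s, s ∈ Subgroup.normalizer (T : Set P) ∧ s ∉ T ∧ s * s ∈ T := by
      have hgen : ∀ i, s0 ^ 2 ^ i ∈ T ∨ (∃ s, s ∈ Subgroup.normalizer (T : Set P) ∧ s ∉ T ∧ s * s ∈ T) →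
          (∃ s, s ∈ Subgroup.normalizer (T : Set P) ∧ s ∉ T ∧ s * s ∈ T) := by
        intro i
        induction i with
        | zero =>
          rintro (h | h)
          · rw [pow_zero, pow_one] at h; exact absurd h hs0T
          · exact h
        | succ i ih =>
          rintro (h | h)
          · by_cases h' : s0 ^ 2 ^ i ∈ T
            · exact ih (Or.inl h')
            · exact ⟨_, Subgroup.pow_mem _ hs0 _, h', by rw [← pow_add, ← two_mul, ← pow_succ']; exact h⟩
          · exact h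
      exact hgen k (Or.inl (hk ▸ T.one_mem))
    obtain ⟨s, hsN, hsT, hss⟩ := hex
    have hconj : ∀ u, u ∈ T ↔ s * u * s⁻¹ ∈ T := fun u => Subgroup.mem_normalizer_iff.1 hsN u
    have hLs : ∀ u ∈ L, s * u * s⁻¹ ∈ L := by
      rintro u ⟨hu, huc, hu2⟩
      refine ⟨(hconj u).1 hu, fun v hv => ?_, ?_⟩
      · have hv' : s⁻¹ * v * s ∈ T :=
          (hconj _).2 (by rwa [show s * (s⁻¹ * v * s) * s⁻¹ = v by group])
        have := huc _ hv'
        calc v * (s * u * s⁻¹) = s * ((s⁻¹ * v * s) * u) * s⁻¹ := by group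
          _ = s * (u * (s⁻¹ * v * s)) * s⁻¹ := by rw [this]
          _ = s * u * s⁻¹ * v := by group
      · rw [show s * u * s⁻¹ * (s * u * s⁻¹) = s * (u * u) * s⁻¹ by group, hu2, mul_one, mul_inv_cancel]
    have hLc : ∀ u ∈ L, ∀ v ∈ L, u * v = v * u := fun u hu v hv => hv.2.1 u hu.1
    have hmvL : ∀ u ∈ L, mv s u ∈ L := fun u hu => L.mul_mem (L.inv_mem hu) (hLs u hu)
    let φ : L →* P := MonoidHom.mk' (fun u => mv s (u : P)) fun x y => by
      show mv s ((x : P) * y) = mv s x * mv s y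
      rw [mv_mul, mul_assoc (y : P)⁻¹, hLc _ (hmvL x x.2) y y.2, inv_mul_cancel_left]
    set F := L ⊓ Subgroup.centralizer ({s} : Set P)
    have hkerφ : φ.ker = F.subgroupOf L := by
      ext u
      rw [MonoidHom.mem_ker, Subgroup.mem_subgroupOf, Subgroup.mem_inf, Subgroup.mem_centralizer_singleton_iff]
      exact ⟨fun h => ⟨u.2, (mv_eq_one.1 h).symm⟩, fun h => mv_eq_one.2 h.2.symm⟩
    have hidx : F.relIndex L = Nat.card φ.range := by rw [Subgroup.relIndex, ← hkerφ, Subgroup.index_ker]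
    have hRF : φ.range ≤ F := by
      rintro _ ⟨u, rfl⟩
      refine ⟨hmvL u u.2, Subgroup.mem_centralizer_singleton_iff.2 ?_⟩
      show mv s (u : P) * s = s * mv s (u : P)
      have h1 := hmvL u u.2
      have hsu : s * s * (u : P) * (s * s)⁻¹ = u := by rw [u.2.2.1 _ hss, mul_inv_cancel_right]
      have h2 : s * mv s (u : P) * s⁻¹ = (mv s (u : P))⁻¹ := by
        calc s * mv s (u : P) * s⁻¹ = (s * (u : P)⁻¹ * s⁻¹) * (s * s * (u : P) * (s * s)⁻¹) := by
              simp only [mv]; group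
          _ = (mv s (u : P))⁻¹ := by rw [hsu]; simp only [mv]; group
      rw [inv_eq_of_mul_eq_one_right h1.2.2] at h2
      exact (mul_inv_eq_iff_eq_mul.1 h2).symm
    have hFc := relIndex_mul_card (show F ≤ L from inf_le_left)
    rw [hidx, hL8] at hFc
    have hle := Subgroup.card_le_of_le hRF
    have hFB : F ⊓ B = ⊥ := (Subgroup.eq_bot_iff_forall _).2 fun b hb => by
      by_contra h1
      exact hsT (hself b hb.2 h1 s (Subgroup.mem_centralizer_singleton_iff.1 hb.1.2).symm)
    have h2 := card_mul_card_le (show F ≤ L from inf_le_left) hBL hFB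
    rw [hB4, hL8] at h2
    nlinarith

/-- Harada's corollary for finite groups. -/
theorem sectional_byFour {G : Type*} [Group G] [Finite G] (T D B : Subgroup G) (hT : IsPGroup 2 T)
    (hprod : Cfsg.IsInternalDirectProduct D B T)
    (hD : (∃ m : ℕ, 2 ≤ m ∧ Nonempty (D ≃* DihedralGroup m)) ∨ Cfsg.IsQuasiDihedral D)
    (hB : IsKleinFour B)
    (hTb : ∀ b ∈ B, orderOf b = 2 → T ≤ Subgroup.centralizer ({b} : Set G) ∧
      Odd (T.relIndex (Subgroup.centralizer ({b} : Set G)))) :
    Cfsg.SectionalPRankLE 2 4 G := by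
  classical
  haveI : Fact (Nat.Prime 2) := ⟨Nat.prime_two⟩
  obtain ⟨hDT, hBT, hcomm, hinf, hsup⟩ := hprod
  obtain ⟨P, hTP⟩ := hT.exists_le_sylow
  have hP2 : IsPGroup 2 P := P.isPGroup'
  have hBsq : ∀ b ∈ B, b * b = 1 := fun b hb => by
    have h := Monoid.pow_exponent_eq_one (⟨b, hb⟩ : B)
    rw [hB.exponent_two, pow_two] at h
    exact congrArg Subtype.val h
  have hBc : ∀ a ∈ B, ∀ b ∈ B, a * b = b * a := fun a ha b hb => by
    have h := inv_eq_of_mul_eq_one_right (hBsq _ (B.mul_mem ha hb))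
    rw [mul_inv_rev, inv_eq_of_mul_eq_one_right (hBsq a ha), inv_eq_of_mul_eq_one_right (hBsq b hb)] at h
    exact h.symm
  have hselfG : ∀ b ∈ B, b ≠ 1 → ∀ s ∈ (P : Subgroup G), s * b = b * s → s ∈ T := by
    intro b hb h1 s hs hsb
    obtain ⟨hle, hodd⟩ := hTb b hb (orderOf_eq_prime (by rw [pow_two]; exact hBsq b hb) h1)
    set C := Subgroup.centralizer ({b} : Set G) ⊓ (P : Subgroup G)
    have hTC : T ≤ C := le_inf hle hTP
    obtain ⟨k, hk⟩ := IsPGroup.iff_card.1 (hP2.to_le (inf_le_right : C ≤ (P : Subgroup G)))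
    have h2 : T.relIndex C ∣ 2 ^ k := by rw [← hk]; exact Subgroup.relIndex_dvd_card _ _
    have h3 : T.relIndex C ∣ T.relIndex (Subgroup.centralizer ({b} : Set G)) := by
      rw [← Subgroup.relIndex_mul_relIndex T C _ hTC inf_le_left]
      exact dvd_mul_right _ _
    have h4 : T.relIndex C = 1 := by
      obtain ⟨j, -, hj⟩ := (Nat.dvd_prime_pow Nat.prime_two).1 h2
      rcases j with _ | j
      · exact hj
      · exfalso
        rw [hj] at h3
        exact (Nat.not_even_iff_odd.2 hodd) (even_iff_two_dvd.2 ((dvd_pow_self 2 j.succ_ne_zero).trans h3))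
    exact Subgroup.relIndex_eq_one.1 h4 ⟨Subgroup.mem_centralizer_singleton_iff.2 hsb, hs⟩
  -- inside the Sylow subgroup
  have hD' : Shape D := by
    rcases hD with ⟨m, hm, ⟨e⟩⟩ | h
    · exact shape_of_equiv e (shape_dihedral hm)
    · exact shape_quasiDihedral h
  set ι := (P : Subgroup G).subtype
  have hinner : ∀ H : Subgroup P, (sq H).relIndex H ≤ 16 := by
    refine bound_byFour hP2 (T := T.subgroupOf P) (D := D.subgroupOf P) (B := B.subgroupOf P)
      (shape_of_equiv (Subgroup.subgroupOfEquivOfLe (hDT.trans hTP)) hD')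
      (fun x hx => hDT hx) (fun x hx => hBT hx) (fun d hd b hb => Subtype.ext (hcomm d hd b hb))
      ?_ ?_ (fun a ha b hb => Subtype.ext (hBc a ha b hb)) (fun b hb => Subtype.ext (hBsq b hb)) ?_
      (fun b hb h1 s hsb => hselfG b hb (fun h => h1 (Subtype.ext h)) s s.2 (congrArg Subtype.val hsb))
    · refine (Subgroup.eq_bot_iff_forall _).2 fun x hx => Subtype.ext ?_
      exact Subgroup.mem_bot.1 (hinf ▸ (⟨hx.1, hx.2⟩ : (x : G) ∈ D ⊓ B))
    · rw [← Subgroup.subgroupOf_sup (hDT.trans hTP) (hBT.trans hTP), hsup]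
    · rw [Nat.card_congr (Subgroup.subgroupOfEquivOfLe (hBT.trans hTP)).toEquiv, hB.card_four]
  have hall : ∀ K : Subgroup G, IsPGroup 2 K → (sq K).relIndex K ≤ 16 := by
    intro K hK
    obtain ⟨Q, hKQ⟩ := hK.exists_le_sylow
    obtain ⟨g, hg⟩ := MulAction.exists_smul_eq G Q P
    set c := (MulAut.conj g).toMonoidHom
    have hinj : Function.Injective c := (MulAut.conj g).injective
    have hle : K.map c ≤ (P : Subgroup G) := by
      rw [← hg]
      rintro _ ⟨x, hx, rfl⟩
      exact Subgroup.smul_mem_pointwise_smul x (MulAut.conj g) _ (hKQ hx)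
    have hmap : ((K.map c).subgroupOf P).map ι = K.map c := by
      rw [Subgroup.subgroupOf_map_subtype, inf_eq_left.2 hle]
    rw [← Subgroup.relIndex_map_map_of_injective (sq K) K hinj, map_sq c K, ← hmap, ← map_sq ι,
      Subgroup.relIndex_map_map_of_injective _ _ (Subgroup.subtype_injective _)]
    exact hinner _
  intro H N _ A _ hA2
  set K₀ := A.comap (QuotientGroup.mk' N)
  obtain ⟨S0⟩ := (inferInstance : Nonempty (Sylow 2 K₀))
  set f : K₀ →* H ⧸ N := (QuotientGroup.mk' N).comp K₀.subtype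
  have hrange : f.range = A := by
    refine le_antisymm ?_ fun y hy => ?_
    · rintro _ ⟨x, rfl⟩; exact x.2
    · obtain ⟨x, rfl⟩ := QuotientGroup.mk'_surjective N y
      exact ⟨⟨x, hy⟩, rfl⟩
  have hAp : IsPGroup 2 A := fun a => ⟨1, by rw [pow_one]; exact Subtype.ext (hA2 _ a.2)⟩
  have himg : (S0 : Subgroup K₀).map f = A := by
    refine Subgroup.eq_of_le_of_card_ge (hrange ▸ Subgroup.map_le_range _ _) ?_
    obtain ⟨k, hk⟩ := IsPGroup.iff_card.1 hAp
    have h1 : ((S0 : Subgroup K₀).map f).relIndex A ∣ (S0 : Subgroup K₀).index := by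
      rw [← hrange, MonoidHom.range_eq_map]
      rw [Subgroup.relIndex_map_map, top_sup_eq, Subgroup.relIndex_top_right]
      exact Subgroup.index_dvd_of_le le_sup_left
    have h2 : ((S0 : Subgroup K₀).map f).relIndex A ∣ 2 ^ k := hk ▸ Subgroup.relIndex_dvd_card _ _
    have h3 : ((S0 : Subgroup K₀).map f).relIndex A = 1 := by
      obtain ⟨j, -, hj⟩ := (Nat.dvd_prime_pow Nat.prime_two).1 h2
      rcases j with _ | j
      · exact hj
      · exact absurd ((dvd_pow_self 2 j.succ_ne_zero).trans (hj ▸ h1)) S0.not_dvd_index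
    exact Subgroup.card_le_of_le (Subgroup.relIndex_eq_one.1 h3)
  set K := ((S0 : Subgroup K₀).map K₀.subtype).map H.subtype
  have hKp : IsPGroup 2 K := (S0.isPGroup'.map _).map _
  set L := N.map H.subtype
  have hle : sq K ≤ L := by
    refine (Subgroup.closure_le L).2 ?_
    rintro _ ⟨_, ⟨_, ⟨x, -, rfl⟩, rfl⟩, rfl⟩
    refine ⟨(x : H) ^ 2, ?_, map_pow _ _ 2⟩
    exact (QuotientGroup.eq_one_iff _).1 (by rw [QuotientGroup.mk_pow]; exact hA2 _ x.2)
  have hcard : L.relIndex K = Nat.card A := by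
    refine (Subgroup.relIndex_map_map_of_injective _ _ (Subgroup.subtype_injective H)).trans ?_
    conv_lhs => rw [← QuotientGroup.ker_mk' N]
    rw [Subgroup.relIndex_ker, Subgroup.map_map, ← himg]
  rw [← hcard]
  exact (Nat.le_of_dvd (relIndex_pos _ _)
    (Subgroup.relIndex_dvd_of_le_left _ hle)).trans (hall K hKp)

end CfsgLib.TwoGroups.SelfCentEight
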