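import Cfsg.Agent.Lib.TwoGroups.SelfCentEight.Cases

/-!
Harada's lemma: a 2-group with a self-centralizing elementary abelian subgroup of order eight has
sectional rank at most four.
-/

set_option autoImplicit false
set_option linter.style.haveILetI false
set_option linter.unusedSectionVars false

namespace CfsgLib.TwoGroups.SelfCentEight

open CfsgLib.TwoGroups.NormalRankTwo
open scoped commutatorElement

universe uS

variable {S : Type uS} [Group S] [Finite S] {V A : Subgroup S}

/-- The centre of an involution acting nontrivially on the normal eight-group. -/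
theorem exists_centre (hS : IsPGroup 2 S) (hV : Eight V) {r : S} (hr : r * r = 1) (hrC : r ∉ cen V) :
    ∃ w ∈ V, w ≠ 1 ∧ Nat.card (shift hV r ⊥) = 4 ∧ (∀ v ∈ V, mv r v ∈ Subgroup.zpowers w) ∧
      ∃ v ∈ V, mv r v = w := by
  set K := shift hV r ⊥
  let φ : V →* S := MonoidHom.mk' (fun v => mv r (v : S)) fun x y => mv_hom_mul hV r x.2 y.2
  have hker : φ.ker = K.subgroupOf V := by
    ext v
    rw [MonoidHom.mem_ker, Subgroup.mem_subgroupOf]
    exact ⟨fun h => ⟨v.2, Subgroup.mem_bot.2 h⟩, fun h => Subgroup.mem_bot.1 h.2⟩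
  have hidx : K.relIndex V = Nat.card φ.range := by
    rw [Subgroup.relIndex, ← hker, Subgroup.index_ker]
  have hKV : K ≤ V := fun x hx => hx.1
  have hRK : φ.range ≤ K := by
    rintro _ ⟨v, rfl⟩
    refine ⟨mv_mem hV r v.2, Subgroup.mem_bot.2 ?_⟩
    show mv r (mv r (v : S)) = 1
    rw [mv, mv_inverted hr, inv_eq hV (mv_mem hV r v.2), hV.sq _ (mv_mem hV r v.2)]
  have hc := relIndex_mul_card hKV
  rw [hidx, hV.card] at hc
  have hle := Subgroup.card_le_of_le hRK
  have hne : Nat.card φ.range ≠ 1 := fun h => hrC (mem_cen.2 fun v hv => by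
    have : φ ⟨v, hv⟩ ∈ φ.range := ⟨_, rfl⟩
    rw [Subgroup.card_eq_one.1 h, Subgroup.mem_bot] at this
    exact (mv_eq_one.1 this).symm)
  have hpos : 0 < Nat.card φ.range := Nat.card_pos
  obtain ⟨j, hj⟩ := IsPGroup.iff_card.1 (hS.to_subgroup K)
  have hR2 : Nat.card φ.range = 2 ∧ Nat.card K = 4 := by
    rw [hj] at hc hle ⊢
    have hj3 : j ≤ 3 := by
      by_contra h
      have := Nat.pow_le_pow_right two_pos (show 4 ≤ j by omega)
      nlinarith
    interval_cases j <;> omega
  obtain ⟨w, hw, hw1⟩ : ∃ w ∈ φ.range, w ≠ 1 := by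
    by_contra h
    push Not at h
    exact hne (Subgroup.card_eq_one.2 ((Subgroup.eq_bot_iff_forall _).2 h))
  have hwV : w ∈ V := hKV (hRK hw)
  have hZ : Subgroup.zpowers w = φ.range := by
    refine Subgroup.eq_of_le_of_card_ge (Subgroup.zpowers_le.2 hw) ?_
    haveI : Fact (Nat.Prime 2) := ⟨Nat.prime_two⟩
    rw [hR2.1, Nat.card_zpowers, orderOf_eq_prime (p := 2) (by rw [pow_two]; exact hV.sq w hwV) hw1]
  obtain ⟨v, hv⟩ := hw
  exact ⟨w, hwV, hw1, hR2.2, fun x hx => hZ ▸ ⟨⟨x, hx⟩, rfl⟩, v, v.2, hv⟩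

theorem commute_of (hA : SelfCent A) {r r' : S} (hr : r ∈ A) (hr' : r' ∈ A) (x : S) :
    mv r (r' * x * r'⁻¹) = r' * mv r x * r'⁻¹ := by
  have h := hA.comm r hr r' hr'
  have h' : r⁻¹ * r' = r' * r⁻¹ := by
    rw [inv_eq_of_mul_eq_one_right (hA.sq r hr)]; exact h
  calc mv r (r' * x * r'⁻¹) = r' * x⁻¹ * r'⁻¹ * ((r * r') * x * (r'⁻¹ * r⁻¹)) := by simp only [mv]; group
    _ = r' * x⁻¹ * r'⁻¹ * ((r' * r) * x * (r⁻¹ * r'⁻¹)) := by
      rw [h, show r'⁻¹ * r⁻¹ = r⁻¹ * r'⁻¹ by
        rw [← mul_inv_rev, ← mul_inv_rev, h]]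
    _ = _ := by simp only [mv]; group

theorem relIndex_le_sixteen (hS : IsPGroup 2 S) (hV : Eight V) (hA : SelfCent A) (H : Subgroup S) :
    (sq H).relIndex H ≤ 16 := by
  classical
  obtain ⟨c1, c2, c3, F⟩ := exists_flag hS hV
  set B := A ⊓ cen V
  have hc1A : c1 ∈ A := hA.self c1 fun a _ => mv_eq_one.1 (F.fix1 a)
  have hc1B : c1 ∈ B := ⟨hc1A, le_cen hV F.m1⟩
  by_cases hAC : A ≤ cen V
  · -- `A` is the normal eight-group
    have hVA : V ≤ A := fun v hv => hA.self v fun a ha => (mem_cen.1 (hAC ha) v hv).symm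
    have hCV : cen V ≤ V := by
      have e : A = V := (Subgroup.eq_of_le_of_card_ge hVA (by rw [hA.card, hV.card])).symm
      intro x hx
      exact e ▸ hA.self x fun a ha => mem_cen.1 hx a (e ▸ ha)
    have h8 : Nat.card (cen V) ≤ 8 := (Subgroup.card_le_of_le hCV).trans hV.card.le
    exact F.relIndex_le_sixteen hS (by omega) (fun e he hout => absurd (hCV he) hout)
      (fun h16 => absurd h16 (by omega)) H
  obtain ⟨a, haA, haC⟩ := SetLike.not_le_iff_exists.1 hAC
  obtain ⟨w, hwV, hw1, hK4, hmove, -⟩ := exists_centre hS hV (hA.sq a haA) haC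
  obtain ⟨j, hj⟩ := IsPGroup.iff_card.1 (hS.to_subgroup B)
  have hB : Nat.card B = 2 ∨ Nat.card B = 4 := by
    have hlt : Nat.card B < 8 := by
      rw [← hA.card]
      refine lt_of_le_of_ne (Subgroup.card_le_of_le inf_le_left) fun e => haC ?_
      exact ((le_of_eq (Subgroup.eq_of_le_of_card_ge (inf_le_left : B ≤ A) e.ge).symm) haA : a ∈ B).2
    rw [hj] at hlt ⊢
    have hj0 : j ≠ 0 := by
      rintro rfl
      have := Subgroup.card_eq_one.1 (show Nat.card B = 1 by simpa using hj)
      rw [this, Subgroup.mem_bot] at hc1B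
      exact F.ne1 hc1B
    have : j < 3 := by
      by_contra h
      have := Nat.pow_le_pow_right two_pos (show 3 ≤ j by omega)
      omega
    interval_cases j <;> omega
  rcases hB with hB2 | hB4
  · -- four transvections with a common centre
    have hBe : ∀ x ∈ B, x = 1 ∨ x = c1 := fun x hx => by
      have : Subgroup.zpowers c1 = B := Subgroup.eq_of_le_of_card_ge (Subgroup.zpowers_le.2 hc1B)
        (by rw [hB2, F.card_zpowers])
      exact eq_one_or_of_mem_zpowers (hV.sq c1 F.m1) (this ▸ hx)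
    set Q := four (hV.sq c1 F.m1) (hA.sq a haA) (hA.comm c1 hc1A a haA)
    have hQA : Q ≤ A := by
      rintro x (rfl | rfl | rfl | rfl)
      exacts [A.one_mem, hc1A, haA, A.mul_mem hc1A haA]
    have hac1 : c1 ≠ a := fun h => haC (h ▸ le_cen hV F.m1)
    have hQ4 : Nat.card Q = 4 := card_four F.ne1 (fun h => haC (h ▸ one_mem _)) hac1
    obtain ⟨b, hbA, hbQ⟩ : ∃ b ∈ A, b ∉ Q := SetLike.not_le_iff_exists.1 fun h => by
      have := Subgroup.card_le_of_le h
      rw [hA.card, hQ4] at this
      omega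
    have hbC : b ∉ cen V := fun h => by
      rcases hBe b ⟨hbA, h⟩ with e | e
      exacts [hbQ (Or.inl e), hbQ (Or.inr (Or.inl e))]
    have habC : a * b ∉ cen V := fun h => hbQ (by
      rcases hBe (a * b) ⟨A.mul_mem haA hbA, h⟩ with e | e
      · refine Or.inr (Or.inr (Or.inl ?_))
        calc b = a * (a * b) := by rw [← mul_assoc, hA.sq a haA, one_mul]
          _ = a := by rw [e, mul_one]
      · refine Or.inr (Or.inr (Or.inr ?_))
        calc b = a * (a * b) := by rw [← mul_assoc, hA.sq a haA, one_mul]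
          _ = c1 * a := by rw [e, hA.comm a haA c1 hc1A])
    -- an element of `C(V)` commuting with `r`, `r'` lies in the line of `c1`
    have hgen : ∀ r ∈ A, ∀ r' ∈ A, r ∉ cen V → r' ∉ cen V → r * r' ∉ cen V →
        ∀ x ∈ cen V, mv r x = 1 → mv r' x = 1 → x ∈ Subgroup.zpowers c1 := by
      intro r hr r' hr' hrC hrC' hrrC x hx h1 h2
      set L := Subgroup.centralizer ({x} : Set S) ⊓ A
      have hrL : r ∈ L := ⟨Subgroup.mem_centralizer_singleton_iff.2 (mv_eq_one.1 h1), hr⟩
      have hr'L : r' ∈ L := ⟨Subgroup.mem_centralizer_singleton_iff.2 (mv_eq_one.1 h2), hr'⟩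
      have hcL : c1 ∈ L := ⟨Subgroup.mem_centralizer_singleton_iff.2 (mv_eq_one.1 (F.fix1 x)).symm, hc1A⟩
      have hc1r : c1 ≠ r := fun h => hrC (h ▸ le_cen hV F.m1)
      set Q' := four (hV.sq c1 F.m1) (hA.sq r hr) (hA.comm c1 hc1A r hr)
      have hQ'L : Q' ≤ L := by
        rintro y (rfl | rfl | rfl | rfl)
        exacts [L.one_mem, hcL, hrL, L.mul_mem hcL hrL]
      have hr'Q : r' ∉ Q' := by
        rintro (h | h | h | h)
        · exact hrC' (h ▸ one_mem _)
        · exact hrC' (h ▸ le_cen hV F.m1)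
        · exact hrrC (by rw [h, hA.sq r hr]; exact one_mem _)
        · exact hrrC (by
            rw [h, hA.comm c1 hc1A r hr, ← mul_assoc, hA.sq r hr, one_mul]; exact le_cen hV F.m1)
      have hLA : L = A := by
        refine Subgroup.eq_of_le_of_card_ge inf_le_right ?_
        have h4 : Nat.card Q' = 4 := card_four F.ne1 (fun h => hrC (h ▸ one_mem _)) hc1r
        have h5 := relIndex_mul_card hQ'L
        have h6 : Q'.relIndex L ≠ 1 := fun h => hr'Q (Subgroup.relIndex_eq_one.1 h hr'L)
        have h7 := relIndex_pos Q' L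
        rw [hA.card, ← h5, h4]
        omega
      have hxA : x ∈ A := hA.self x fun y hy =>
        (Subgroup.mem_centralizer_singleton_iff.1 (hLA.symm ▸ hy : y ∈ L).1).symm.symm
      rcases hBe x ⟨hxA, hx⟩ with e | e <;> rw [e]
      exacts [one_mem _, Subgroup.mem_zpowers c1]
    -- the centre of each transvection is `c1`
    have hcentre : ∀ r ∈ A, ∀ r' ∈ A, r ∉ cen V → r' ∉ cen V → r * r' ∉ cen V →
        Nat.card (shift hV r ⊥) = 4 ∧ (∀ v ∈ V, mv r v ∈ Subgroup.zpowers c1) := by
      intro r hr r' hr' hrC hrC' hrrC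
      obtain ⟨u, huV, hu1, hK, hm, v0, hv0, e0⟩ := exists_centre hS hV (hA.sq r hr) hrC
      have hfr : mv r u = 1 := by
        rw [← e0, mv, mv_inverted (hA.sq r hr), inv_eq hV (mv_mem hV r hv0), hV.sq _ (mv_mem hV r hv0)]
      have hfr' : mv r' u = 1 := by
        have h := hm _ (hV.normal.conj_mem v0 hv0 r')
        rw [commute_of hA hr hr', e0] at h
        rcases eq_one_or_of_mem_zpowers (hV.sq u huV) h with h' | h'
        · exact absurd (conj_eq_one_iff.1 h') hu1
        · rw [mv, h', inv_mul_cancel]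
      have := eq_one_or_of_mem_zpowers (hV.sq c1 F.m1) (hgen r hr r' hr' hrC hrC' hrrC u (le_cen hV huV) hfr hfr')
      rcases this with h | h
      · exact absurd h hu1
      · exact ⟨hK, h ▸ hm⟩
    have htrans : ∀ r ∈ A, ∀ r' ∈ A, r ∉ cen V → r' ∉ cen V → r * r' ∉ cen V → Transv V r c1 := by
      intro r hr r' hr' hrC hrC' hrrC
      have hrr' : r' * r ∉ cen V := by rwa [hA.comm r' hr' r hr]
      obtain ⟨hK, hm⟩ := hcentre r hr r' hr' hrC hrC' hrrC
      obtain ⟨-, hm'⟩ := hcentre r' hr' r hr hrC' hrC hrr'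
      refine ⟨hA.sq r hr, hrC, ?_, F.m1, F.ne1, hm⟩
      -- a fixed point of `r` outside `V` yields one that `r'` moves into `V`
      have hlow : ∀ n, ∀ x ∈ cen V, mv r x = 1 → x ∉ V →
          ∃ y ∈ cen V, mv r y = 1 ∧ y ∉ V ∧
            ((y ∈ (⊤ : Subgroup S).lowerCentralSeries n) ∨ mv r' y ∈ V) := by
        intro n
        induction n with
        | zero => exact fun x hx h1 h2 => ⟨x, hx, h1, h2, Or.inl trivial⟩
        | succ n ih =>
          intro x hx h1 h2
          obtain ⟨y, hy, hy1, hy2, h | h⟩ := ih x hx h1 h2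
          swap
          · exact ⟨y, hy, hy1, hy2, Or.inr h⟩
          by_cases h' : mv r' y ∈ V
          · exact ⟨y, hy, hy1, hy2, Or.inr h'⟩
          refine ⟨mv r' y, mv_mem_cen hV r' hy, ?_, h', Or.inl ?_⟩
          · have hry : r * y * r⁻¹ = y := by rw [conj_eq, hy1, mul_one]
            have h3 : r * (r' * y * r'⁻¹) * r⁻¹ = r' * y * r'⁻¹ := by
              rw [conj_eq, commute_of hA hr hr', hy1, mul_one, mul_inv_cancel, mul_one]
            have : r * mv r' y * r⁻¹ = mv r' y := by
              calc r * mv r' y * r⁻¹ = (r * y * r⁻¹)⁻¹ * (r * (r' * y * r'⁻¹) * r⁻¹) := by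
                    simp only [mv]; group
                _ = mv r' y := by rw [hry, h3, mv]
            show (mv r' y)⁻¹ * (r * mv r' y * r⁻¹) = 1
            rw [this, inv_mul_cancel]
          · rw [Subgroup.lowerCentralSeries_succ]
            have : mv r' y = ⁅y⁻¹, r'⁆ := by rw [mv, commutatorElement_def]; group
            rw [this]
            exact Subgroup.commutator_mem_commutator (inv_mem h) trivial
      intro x hx h1
      by_contra hxV
      haveI := hS.isNilpotent
      obtain ⟨n, hn⟩ := Subgroup.nilpotent_iff_lowerCentralSeries.1 (inferInstance : Group.IsNilpotent S)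
      obtain ⟨y, hy, hy1, hy2, h | h⟩ := hlow n x hx h1 hxV
      · rw [hn, Subgroup.mem_bot] at h
        exact hy2 (h ▸ one_mem _)
      -- `r'` moves some fixed point of `r` in `V`
      obtain ⟨v, hv, hv'⟩ : ∃ v ∈ shift hV r ⊥, mv r' v ≠ 1 := by
        by_contra hcon
        push Not at hcon
        have hle : shift hV r ⊥ ≤ Subgroup.zpowers c1 := fun z hz =>
          hgen r hr r' hr' hrC hrC' hrrC z (le_cen hV hz.1) (Subgroup.mem_bot.1 hz.2) (hcon z hz)
        have := Subgroup.card_le_of_le hle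
        rw [hK, F.card_zpowers] at this
        omega
      have hvz : mv r' v = c1 := (eq_one_or_of_mem_zpowers (hV.sq c1 F.m1) (hm' v hv.1)).resolve_left hv'
      have hvr : mv r v = 1 := Subgroup.mem_bot.1 hv.2
      -- the displacement of `y` by `r'` is fixed by both
      have hd : mv r' y ∈ Subgroup.zpowers c1 := by
        refine hgen r hr r' hr' hrC hrC' hrrC _ (le_cen hV h) ?_ ?_
        · have hry : r * y * r⁻¹ = y := by rw [conj_eq, hy1, mul_one]
          have h3 : r * (r' * y * r'⁻¹) * r⁻¹ = r' * y * r'⁻¹ := by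
            rw [conj_eq, commute_of hA hr hr', hy1, mul_one, mul_inv_cancel, mul_one]
          have : r * mv r' y * r⁻¹ = mv r' y := by
            calc r * mv r' y * r⁻¹ = (r * y * r⁻¹)⁻¹ * (r * (r' * y * r'⁻¹) * r⁻¹) := by
                  simp only [mv]; group
              _ = mv r' y := by rw [hry, h3, mv]
          show (mv r' y)⁻¹ * (r * mv r' y * r⁻¹) = 1
          rw [this, inv_mul_cancel]
        · rw [mv, mv_inverted (hA.sq r' hr'), inv_eq hV h, hV.sq _ h]
      have hin : ∀ t ∈ cen V, mv r t = 1 → mv r' t = 1 → t ∈ V := fun t ht e1 e2 =>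
        Subgroup.zpowers_le.2 F.m1 (hgen r hr r' hr' hrC hrC' hrrC t ht e1 e2)
      rcases eq_one_or_of_mem_zpowers (hV.sq c1 F.m1) hd with e | e
      · exact hy2 (hin y hy hy1 e)
      · refine hy2 ((V.mul_mem_cancel_right hv.1).1 (hin (y * v) ((cen V).mul_mem hy (le_cen hV hv.1)) ?_ ?_))
        · rw [mv_mul_of hV r (le_cen hV hv.1) (by rw [hy1]; exact V.one_mem), hy1, hvr, one_mul]
        · rw [mv_mul_of hV r' (le_cen hV hv.1) h, e, hvz, hV.sq c1 F.m1]
    have e1 : a * (a * b) = b := by rw [← mul_assoc, hA.sq a haA, one_mul]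
    have e2 : a * b * a = b := by rw [hA.comm a haA b hbA, mul_assoc, hA.sq a haA, mul_one]
    exact four_case hS F (htrans a haA b hbA haC hbC habC)
      (htrans b hbA a haA hbC haC (by rwa [hA.comm b hbA a haA]))
      (htrans (a * b) (A.mul_mem haA hbA) a haA habC haC (by rwa [e2])) H
  · -- a single transvection
    have hUB : shift hV a ⊥ ≤ B := by
      intro v hv
      refine ⟨hA.self v fun x hx => ?_, le_cen hV hv.1⟩
      have hva : a * v = v * a := mv_eq_one.1 (Subgroup.mem_bot.1 hv.2)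
      by_cases hxB : x ∈ B
      · exact (mem_cen.1 hxB.2 v hv.1).symm
      · have hm := mul_mem_of_card (inf_le_left : B ≤ A) (by rw [hA.card, hB4]) haA hx
          (fun h => haC h.2) hxB
        have hc := (mem_cen.1 hm.2 v hv.1).symm
        have hxe : x = a * (a * x) := by rw [← mul_assoc, hA.sq a haA, one_mul]
        rw [hxe, mul_assoc, hc, ← mul_assoc, hva, mul_assoc]
    have hUeq : shift hV a ⊥ = B := Subgroup.eq_of_le_of_card_ge hUB (by rw [hK4, hB4])
    have hfix : ∀ x ∈ cen V, mv a x = 1 → x ∈ V := by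
      intro x hx h1
      have hxA : x ∈ A := hA.self x fun y hy => by
        have hxB : ∀ b ∈ B, b * x = x * b := fun b hb => mem_cen.1 hx b (hUeq.symm ▸ hb : b ∈ shift hV a ⊥).1
        by_cases hyB : y ∈ B
        · exact hxB y hyB
        · have hm := mul_mem_of_card (inf_le_left : B ≤ A) (by rw [hA.card, hB4]) haA hy
            (fun h => haC h.2) hyB
          have hye : y = a * (a * y) := by rw [← mul_assoc, hA.sq a haA, one_mul]
          rw [hye, mul_assoc, hxB _ hm, ← mul_assoc, mv_eq_one.1 h1, mul_assoc]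
      exact (hUeq.symm ▸ (⟨hxA, hx⟩ : x ∈ B) : x ∈ shift hV a ⊥).1
    have T : Transv V a w := ⟨hA.sq a haA, haC, hfix, hwV, hw1, hmove⟩
    have hUA : T.U hV ≤ A := hUB.trans inf_le_left
    by_cases hCV : cen V ≤ V
    · have h8 : Nat.card (cen V) ≤ 8 := (Subgroup.card_le_of_le hCV).trans hV.card.le
      exact F.relIndex_le_sixteen hS (by omega) (fun e he hout => absurd (hCV he) hout)
        (fun h16 => absurd h16 (by omega)) H
    obtain ⟨e, E⟩ := exists_layer_cen hS hV hCV
    by_cases hee : e * e ∈ Subgroup.zpowers w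
    swap
    · exact square_case hS hV hA T haA hUA E hee H
    refine small_case hS F hA T haA hUA E (le_antisymm ?_ (E.VE_le_cen hV)) hee H
    by_contra hnot
    haveI := E.VE_normal hV
    obtain ⟨y, hy, hyn, -, hys⟩ := exists_layer hS (cen_normal hV) hnot
    have hyV : mv a y ∉ V := fun h => hyn (E.mem_VE_of_mv hV T hy h)
    obtain ⟨v, hv, hye⟩ := E.exists_eq hV (hys a) hyV
    have h1 := mv_inverted (hA.sq a haA) y
    rw [hye, conj_eq, mv_mul_of hV a (le_cen hV hv) (E.central a)] at h1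
    set m := mv a e * mv a v with hm
    have hmV : m ∈ V := V.mul_mem (E.central a) (mv_mem hV a hv)
    have h2 : e * e * m = 1 := by
      have hev : e * v ∈ cen V := (cen V).mul_mem E.mem (le_cen hV hv)
      calc e * e * m = e * v * (e * v) * m := by
            rw [show e * v * (e * v) = e * (v * e) * v by group, mem_cen.1 E.mem v hv,
              show e * (e * v) * v = e * e * (v * v) by group, hV.sq v hv, mul_one]
        _ = e * v * (e * v * m) := mul_assoc _ _ _
        _ = 1 := by rw [h1, mul_inv_cancel]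
    refine E.out (T.mem_of_mv hV E.mem ?_)
    have : mv a e = (e * e)⁻¹ * mv a v := by
      rw [← mul_one (e * e)⁻¹, ← h2, inv_mul_cancel_left, hm, mul_assoc, hV.sq _ (mv_mem hV a hv),
        mul_one]
    rw [this]
    exact mul_mem (inv_mem hee) (T.move v hv)

/-- Harada's lemma. -/
theorem sectional_rank_le_four (hS : IsPGroup 2 S) (hA : SelfCent A) :
    Cfsg.SectionalPRankLE 2 4 S := by
  rcases exists_eight_or hS with ⟨V, hV⟩ | h
  · exact sectional_of_relIndex fun H => relIndex_le_sixteen hS hV hA H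
  · exact h

end CfsgLib.TwoGroups.SelfCentEight
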