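import Cfsg.Agent.Lib.TwoGroups.NormalRankTwoSectional
import Cfsg.Agent.Lib.PGroups.Basic
import Cfsg.Agent.Lib.Transfer.NormalAbelian

/-!
Generalities for 2-groups with a self-centralizing elementary abelian subgroup of order eight:
a product formula for `|H : H²|`, and normal elementary abelian subgroups of order eight.
-/

set_option autoImplicit false
set_option linter.style.haveILetI false
set_option linter.unusedSectionVars false

namespace CfsgLib.TwoGroups.SelfCentEight

open CfsgLib.TwoGroups.NormalRankTwo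

variable {S : Type*} [Group S] [Finite S]

/-- `x⁻¹ (s x s⁻¹)`. -/
def mv (s x : S) : S := x⁻¹ * (s * x * s⁻¹)

theorem conj_eq (s x : S) : s * x * s⁻¹ = x * mv s x := by rw [mv, mul_inv_cancel_left]

theorem mv_eq_one {s x : S} : mv s x = 1 ↔ s * x = x * s := by
  rw [mv, inv_mul_eq_one]
  constructor
  · intro h
    calc s * x = (s * x * s⁻¹) * s := (inv_mul_cancel_right _ _).symm
      _ = x * s := by rw [← h]
  · intro h
    rw [h, mul_inv_cancel_right]

theorem mv_mul (s x y : S) : mv s (x * y) = y⁻¹ * mv s x * y * mv s y := by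
  simp only [mv]; group

/-- A normal elementary abelian subgroup of order eight. -/
structure Eight (V : Subgroup S) : Prop where
  normal : V.Normal
  comm : ∀ a ∈ V, ∀ b ∈ V, a * b = b * a
  sq : ∀ a ∈ V, a * a = 1
  card : Nat.card V = 8

/-- The centralizer of `V`. -/
abbrev cen (V : Subgroup S) : Subgroup S := Subgroup.centralizer (V : Set S)

variable {V : Subgroup S}

theorem mem_cen {x : S} : x ∈ cen V ↔ ∀ v ∈ V, v * x = x * v := Subgroup.mem_centralizer_iff

theorem cen_normal (hV : Eight V) : (cen V).Normal := by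
  haveI := hV.normal
  exact inferInstance

theorem le_cen (hV : Eight V) : V ≤ cen V := fun x hx => mem_cen.2 fun v hv => hV.comm v hv x hx

theorem inv_eq (hV : Eight V) {a : S} (ha : a ∈ V) : a⁻¹ = a :=
  inv_eq_of_mul_eq_one_right (hV.sq a ha)

theorem mv_mem (hV : Eight V) (s : S) {v : S} (hv : v ∈ V) : mv s v ∈ V :=
  V.mul_mem (V.inv_mem hv) (hV.normal.conj_mem v hv s)

theorem mv_mem_cen (hV : Eight V) (s : S) {x : S} (hx : x ∈ cen V) : mv s x ∈ cen V :=
  (cen V).mul_mem ((cen V).inv_mem hx) ((cen_normal hV).conj_mem x hx s)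

theorem mv_mul_of (hV : Eight V) (s : S) {x y : S} (hy : y ∈ cen V) (h : mv s x ∈ V) :
    mv s (x * y) = mv s x * mv s y := by
  rw [mv_mul, mul_assoc y⁻¹, mem_cen.1 hy _ h, inv_mul_cancel_left]

theorem relIndex_pos (A B : Subgroup S) : 0 < A.relIndex B :=
  Nat.pos_of_ne_zero Subgroup.index_ne_zero_of_finite

theorem relIndex_mul_card {F H : Subgroup S} (hF : F ≤ H) :
    F.relIndex H * Nat.card F = Nat.card H := by
  rw [← Subgroup.relIndex_bot_left, mul_comm, Subgroup.relIndex_mul_relIndex _ _ _ bot_le hF,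
    Subgroup.relIndex_bot_left]

theorem card_eq_ker_mul_map {G' : Type*} [Group G'] (f : S →* G') (K : Subgroup S) :
    Nat.card K = Nat.card (K ⊓ f.ker : Subgroup S) * Nat.card (K.map f) := by
  rw [← relIndex_mul_card (inf_le_left : K ⊓ f.ker ≤ K), mul_comm, inf_comm, Subgroup.inf_relIndex_right]
  congr 1
  rw [← Subgroup.relIndex_ker (K := K) f]

theorem relIndex_count {G' : Type*} [Group G'] [Finite G'] (f : S →* G') {F H : Subgroup S} (hF : F ≤ H) :
    F.relIndex H = (F ⊓ f.ker).relIndex (H ⊓ f.ker) * (F.map f).relIndex (H.map f) := by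
  have h1 := relIndex_mul_card hF
  have h2 := relIndex_mul_card (inf_le_inf_right f.ker hF)
  have h3 := relIndex_mul_card (Subgroup.map_mono (f := f) hF)
  rw [card_eq_ker_mul_map f F, card_eq_ker_mul_map f H, ← h2, ← h3] at h1
  refine Nat.eq_of_mul_eq_mul_right (mul_pos Nat.card_pos Nat.card_pos : 0 <
    Nat.card (F ⊓ f.ker : Subgroup S) * Nat.card (F.map f)) ?_
  rw [h1]; ring

theorem map_sq {G' : Type*} [Group G'] [Finite G'] (f : S →* G') (H : Subgroup S) :
    (sq H).map f = sq (H.map f) := by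
  refine (MonoidHom.map_closure f _).trans (congrArg Subgroup.closure ?_)
  ext y
  constructor
  · rintro ⟨_, ⟨h, hh, rfl⟩, rfl⟩
    exact ⟨f h, ⟨h, hh, rfl⟩, (map_pow f h 2).symm⟩
  · rintro ⟨_, ⟨h, hh, rfl⟩, rfl⟩
    exact ⟨h ^ 2, ⟨h, hh, rfl⟩, map_pow f h 2⟩

theorem relIndex_sq_pow_two (hS : IsPGroup 2 S) (H : Subgroup S) :
    ∃ k, (sq H).relIndex H = 2 ^ k :=
  relIndex_pow_two hS _ _

/-- Sectional rank from the index of the squares. -/
theorem sectional_of_relIndex (h : ∀ K : Subgroup S, (sq K).relIndex K ≤ 16) :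
    Cfsg.SectionalPRankLE 2 4 S := by
  intro H N _ A _ hA2
  set K₀ := A.comap (QuotientGroup.mk' N)
  set K := K₀.map H.subtype
  set L := N.map H.subtype
  have hle : sq K ≤ L := by
    refine (Subgroup.closure_le L).2 ?_
    rintro _ ⟨_, ⟨k, hk, rfl⟩, rfl⟩
    refine ⟨k ^ 2, ?_, map_pow _ k 2⟩
    exact (QuotientGroup.eq_one_iff _).1 (by rw [QuotientGroup.mk_pow]; exact hA2 _ hk)
  have hcard : L.relIndex K = Nat.card A := by
    have e : N = (⊥ : Subgroup (H ⧸ N)).comap (QuotientGroup.mk' N) := by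
      rw [MonoidHom.comap_bot, QuotientGroup.ker_mk']
    refine (Subgroup.relIndex_map_map_of_injective _ _ (Subgroup.subtype_injective H)).trans
      ((congrArg (fun M : Subgroup H => M.relIndex K₀) e).trans ?_)
    rw [Subgroup.relIndex_comap,
      Subgroup.map_comap_eq_self_of_surjective (QuotientGroup.mk'_surjective N),
      Subgroup.relIndex_bot_left]
  rw [← hcard]
  exact (Nat.le_of_dvd (relIndex_pos _ _)
    (Subgroup.relIndex_dvd_of_le_left _ hle)).trans (h K)

/-- A nontrivial normal subgroup of a quotient meets the centre in an involution. -/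
theorem exists_layer (hS : IsPGroup 2 S) {W D : Subgroup S} [W.Normal] (hD : D.Normal) (hnot : ¬ D ≤ W) :
    ∃ e ∈ D, e ∉ W ∧ e * e ∈ W ∧ ∀ s : S, mv s e ∈ W := by
  haveI : Fact (Nat.Prime 2) := ⟨Nat.prime_two⟩
  haveI : (D.map (QuotientGroup.mk' W)).Normal := hD.map _ (QuotientGroup.mk'_surjective W)
  have hne : D.map (QuotientGroup.mk' W) ≠ ⊥ := by
    rw [Ne, Subgroup.map_eq_bot_iff, QuotientGroup.ker_mk']
    exact hnot
  set Z := D.map (QuotientGroup.mk' W) ⊓ Subgroup.center (S ⧸ W)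
  have hZ : Z ≠ ⊥ := CfsgLib.PGroups.inf_center_ne_bot (hS.to_quotient W) hne
  have hdvd : 2 ∣ Nat.card Z := by
    obtain ⟨k, hk⟩ := IsPGroup.iff_card.1 ((hS.to_quotient W).to_subgroup Z)
    rcases k with _ | k
    · exact absurd (Subgroup.card_eq_one.1 (by simpa using hk)) hZ
    · exact hk ▸ dvd_pow_self 2 k.succ_ne_zero
  obtain ⟨⟨q, hq⟩, hqo⟩ := exists_prime_orderOf_dvd_card' 2 hdvd
  obtain ⟨e, he, rfl⟩ := hq.1
  refine ⟨e, he, ?_, ?_, fun s => ?_⟩
  · intro h
    rw [orderOf_eq_iff (by norm_num)] at hqo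
    exact hqo.2 1 one_lt_two one_pos (by rw [pow_one]; exact Subtype.ext ((QuotientGroup.eq_one_iff _).2 h))
  · have h2 : ((QuotientGroup.mk' W) e) ^ 2 = 1 :=
      congrArg Subtype.val (orderOf_dvd_iff_pow_eq_one.1 (dvd_of_eq hqo))
    rw [← map_pow, pow_two] at h2
    exact (QuotientGroup.eq_one_iff _).1 h2
  · refine (QuotientGroup.eq_one_iff _).1 ?_
    show QuotientGroup.mk' W (mv s e) = 1
    rw [mv, map_mul, map_mul, map_mul, map_inv, map_inv, Subgroup.mem_center_iff.1 hq.2,
      mul_inv_cancel_right, inv_mul_cancel]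

/-- A 2-group that has no normal elementary abelian subgroup of order eight has sectional rank at most four. -/
theorem exists_eight_or (hS : IsPGroup 2 S) :
    (∃ V : Subgroup S, Eight V) ∨ Cfsg.SectionalPRankLE 2 4 S := by
  classical
  haveI : Fact (Nat.Prime 2) := ⟨Nat.prime_two⟩
  by_cases hr : SmallNormal S
  · exact Or.inr (NormalRankTwo.sectional_rank_le_four hS hr)
  left
  simp only [SmallNormal, not_forall, not_le] at hr
  obtain ⟨E, hEn, hEc, hE2, h4⟩ := hr
  haveI := hEn
  obtain ⟨j, hj⟩ := IsPGroup.iff_card.1 (hS.to_subgroup E)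
  obtain ⟨V, hVn, hVE, hV8, -⟩ := CfsgLib.Transfer.exists_normal_card hS E 3 (by
    rw [hj] at h4 ⊢
    refine Nat.pow_le_pow_right two_pos ?_
    by_contra h
    have := Nat.pow_le_pow_right two_pos (show j ≤ 2 by omega)
    omega)
  exact ⟨V, hVn, fun a ha b hb => hEc a (hVE ha) b (hVE hb),
    fun a ha => by rw [← pow_two]; exact hE2 a (hVE ha), by rw [hV8]; norm_num⟩

end CfsgLib.TwoGroups.SelfCentEight
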