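import Cfsg.Agent.Lib.TwoGroups.SelfCentEight.Main
import Mathlib.GroupTheory.SpecificGroups.Quaternion
import Mathlib.GroupTheory.NoncommCoprod

/-!
Two sources of self-centralizing eight-groups: a wreathed `(Z₂ × Z₂) ≀ Z₂` with self-centralizing centre,
and a self-centralizing extraspecial group `Q₈ ∗ Q₈`.
-/

set_option autoImplicit false
set_option linter.style.haveILetI false
set_option linter.unusedSectionVars false

namespace CfsgLib.TwoGroups.SelfCentEight

open CfsgLib.TwoGroups.NormalRankTwo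

universe uS

variable {S : Type uS} [Group S] [Finite S]

theorem sectional_of_wreathed (hS : IsPGroup 2 S) (Q E : Subgroup S) (hEQ : E ≤ Q)
    (hEc : ∀ a ∈ E, ∀ b ∈ E, a * b = b * a) (hE2 : ∀ a ∈ E, a * a = 1) (hE16 : Nat.card E = 16)
    (hQ32 : Nat.card Q = 32) (s : S) (hsQ : s ∈ Q) (hsE : s ∉ E) (hs : s * s = 1)
    (hfix : Nat.card (E ⊓ Subgroup.centralizer ({s} : Set S) : Subgroup S) = 4)
    (hC : Subgroup.centralizer (((Subgroup.center Q).map Q.subtype : Subgroup S) : Set S) = Q) :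
    Cfsg.SectionalPRankLE 2 4 S := by
  classical
  set A := Q ⊓ Subgroup.centralizer ({s} : Set S)
  set F := E ⊓ Subgroup.centralizer ({s} : Set S)
  have hmem : ∀ {u : S}, u ∈ Subgroup.centralizer ({s} : Set S) ↔ u * s = s * u :=
    Subgroup.mem_centralizer_singleton_iff
  have hout : ∀ x ∈ Q, x ∉ E → s * x ∈ E := fun x hx hxE =>
    mul_mem_of_card hEQ (by rw [hE16, hQ32]) hsQ hx hsE hxE
  have hfacE : ∀ x ∈ Q, x ∉ E → x = s * (s * x) := fun x _ _ => by rw [← mul_assoc, hs, one_mul]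
  -- the centre lies in `F`
  have hZF : ∀ c ∈ ((Subgroup.center Q).map Q.subtype : Subgroup S), c ∈ F := by
    rintro _ ⟨c, hc, rfl⟩
    have hcomm : ∀ q ∈ Q, q * (c : S) = c * q := fun q hq =>
      congrArg Subtype.val (Subgroup.mem_center_iff.1 hc ⟨q, hq⟩)
    by_cases hcE : (c : S) ∈ E
    · exact ⟨hcE, hmem.2 (hcomm s hsQ).symm⟩
    · exfalso
      have h1 := hout c c.2 hcE
      have hfull : E ≤ F := fun x hx => by
        refine ⟨hx, hmem.2 ?_⟩
        have h2 : (x * s) * (s * c) = (s * x) * (s * c) := by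
          rw [mul_assoc x, ← mul_assoc s s, hs, one_mul, hcomm x (hEQ hx), mul_assoc s x,
            hEc x hx _ h1, ← mul_assoc s, ← mul_assoc s s, hs, one_mul]
        exact mul_right_cancel h2
      have := Subgroup.card_le_of_le hfull
      rw [hE16, hfix] at this
      omega
  have hFZ : ∀ x ∈ F, ∀ q ∈ Q, q * x = x * q := by
    intro x hx q hq
    by_cases hqE : q ∈ E
    · exact hEc q hqE x hx.1
    · rw [hfacE q hq hqE, mul_assoc, hEc _ (hout q hq hqE) x hx.1, ← mul_assoc, ← hmem.1 hx.2, mul_assoc]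
  have hAfac : ∀ x ∈ A, x ∈ F ∨ s * x ∈ F := by
    intro x hx
    by_cases hxE : x ∈ E
    · exact Or.inl ⟨hxE, hx.2⟩
    · exact Or.inr ⟨hout x hx.1 hxE, (Subgroup.centralizer ({s} : Set S)).mul_mem (hmem.2 rfl) hx.2⟩
  have hAc : ∀ a ∈ A, ∀ b ∈ A, a * b = b * a := by
    intro a ha b hb
    rcases hAfac a ha with h | h
    · exact (hFZ a h b hb.1).symm
    · have hb' := hFZ _ h b hb.1
      calc a * b = s * ((s * a) * b) := by rw [← mul_assoc, ← mul_assoc, hs, one_mul]
        _ = (s * b) * (s * a) := by rw [← hb', mul_assoc]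
        _ = (b * s) * (s * a) := by rw [hmem.1 hb.2]
        _ = b * a := by rw [mul_assoc, ← mul_assoc s, hs, one_mul]
  refine sectional_rank_le_four (A := A) hS ⟨hAc, fun a ha => ?_, ?_, fun x hx => ?_⟩
  · rcases hAfac a ha with h | h
    · exact hE2 a h.1
    · have hsa : s * a = a * s := (hmem.1 ha.2).symm
      calc a * a = (s * s) * (a * a) := by rw [hs, one_mul]
        _ = s * (s * a) * a := by group
        _ = s * (a * s) * a := by rw [hsa]
        _ = (s * a) * (s * a) := by group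
        _ = 1 := hE2 _ h.1
  · have hidx : E.relIndex Q = 2 :=
      Nat.eq_of_mul_eq_mul_right (by norm_num : 0 < 16)
        (by rw [← hE16, relIndex_mul_card hEQ, hQ32, hE16])
    have hidx' : F.relIndex A = 2 := by
      rw [Subgroup.relIndex, Subgroup.index_eq_two_iff]
      refine ⟨⟨s, hsQ, hmem.2 rfl⟩, fun b => ?_⟩
      show Xor ((b : S) * s ∈ F) ((b : S) ∈ F)
      by_cases hb : (b : S) ∈ F
      · exact Or.inr ⟨hb, fun h => hsE ((E.mul_mem_cancel_left hb.1).1 h.1)⟩
      · refine Or.inl ⟨?_, hb⟩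
        rw [hmem.1 b.2.2]
        exact (hAfac b b.2).resolve_left hb
    have := relIndex_mul_card (show F ≤ A from inf_le_inf_right _ hEQ)
    rw [hidx', hfix] at this
    exact this.symm
  · refine ⟨hC.le (Subgroup.mem_centralizer_iff.2 fun c hc => ?_), hmem.2 (hx s ⟨hsQ, hmem.2 rfl⟩).symm⟩
    have hcF := hZF c hc
    exact hx c ⟨hEQ hcF.1, hcF.2⟩

/-! ### The extraspecial group `Q₈ ∗ Q₈` -/

/-- The model for pairs. -/
abbrev QQ := QuaternionGroup 2 × QuaternionGroup 2

/-- The diagonal central element. -/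
abbrev zz : QQ := (QuaternionGroup.a 2, QuaternionGroup.a 2)

/-- Congruence modulo the diagonal central element. -/
abbrev Eqv (p q : QQ) : Prop := q = p ∨ q = p * zz

abbrev gi : QQ := (QuaternionGroup.a 1, 1)
abbrev gj : QQ := (QuaternionGroup.xa 0, 1)
abbrev di : QQ := (QuaternionGroup.a 1, QuaternionGroup.a 1)
abbrev dj : QQ := (QuaternionGroup.xa 0, QuaternionGroup.xa 0)
abbrev hi' : QQ := (1, QuaternionGroup.a 1)
abbrev hj' : QQ := (1, QuaternionGroup.xa 0)

/-- An automorphism of order three of `Q₈`. -/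
def rot3 : QuaternionGroup 2 →* QuaternionGroup 2 :=
  MonoidHom.mk' (fun q => match q with
    | .a n => (QuaternionGroup.xa 0) ^ n.val
    | .xa n => (QuaternionGroup.a 1 * QuaternionGroup.xa 0) * (QuaternionGroup.xa 0) ^ n.val)
    (by decide +kernel)

theorem rot3_injective : Function.Injective rot3 := by
  intro p q
  revert p q
  decide +kernel

/-- The candidate candidates for the image of `gi`. -/
abbrev CandI (u : QQ) : Prop :=
  Eqv (gi * gi) (u * u) ∧ Eqv (gi * di * gi⁻¹ * di⁻¹) (u * di * u⁻¹ * di⁻¹) ∧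
    Eqv (gi * dj * gi⁻¹ * dj⁻¹) (u * dj * u⁻¹ * dj⁻¹)

abbrev CandJ (v : QQ) : Prop :=
  Eqv (gj * gj) (v * v) ∧ Eqv (gj * di * gj⁻¹ * di⁻¹) (v * di * v⁻¹ * di⁻¹) ∧
    Eqv (gj * dj * gj⁻¹ * dj⁻¹) (v * dj * v⁻¹ * dj⁻¹)

theorem candI : ∀ u : QQ, CandI u → Eqv gi u ∨ Eqv (gi * (QuaternionGroup.a 2, 1)) u ∨
    Eqv hi' u ∨ Eqv (hi' * (QuaternionGroup.a 2, 1)) u := by decide +kernel

theorem candJ : ∀ v : QQ, CandJ v → Eqv gj v ∨ Eqv (gj * (QuaternionGroup.a 2, 1)) v ∨
    Eqv hj' v ∨ Eqv (hj' * (QuaternionGroup.a 2, 1)) v := by decide +kernel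

set_option synthInstance.maxSize 2000 in
set_option synthInstance.maxHeartbeats 400000 in
theorem model : ∀ u ∈ ([gi, gi * (QuaternionGroup.a 2, 1), hi', hi' * (QuaternionGroup.a 2, 1)] : List QQ),
    ∀ v ∈ ([gj, gj * (QuaternionGroup.a 2, 1), hj', hj' * (QuaternionGroup.a 2, 1)] : List QQ),
    Eqv (gi * gj * gi⁻¹ * gj⁻¹) (u * v * u⁻¹ * v⁻¹) → Eqv ((gi * gj) * (gi * gj)) ((u * v) * (u * v)) →
    Eqv ((gi * gj) * di * (gi * gj)⁻¹ * di⁻¹) ((u * v) * di * (u * v)⁻¹ * di⁻¹) →
    (∃ q : QQ, Eqv (di * q) (q * di) ∧ Eqv (dj * q) (q * dj) ∧ Eqv u (q * gi * q⁻¹) ∧ Eqv v (q * gj * q⁻¹)) ∨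
      ((Eqv hi' u ∨ Eqv (hi' * (QuaternionGroup.a 2, 1)) u) ∧
        (Eqv hj' v ∨ Eqv (hj' * (QuaternionGroup.a 2, 1)) v)) := by decide +kernel

/-- The subgroup cut out by the diagonal generators. -/
abbrev InA (p : QQ) : Prop := Eqv (di * p) (p * di) ∧ Eqv (dj * p) (p * dj)

theorem inA_comm : ∀ p : QQ, InA p → ∀ q : QQ, InA q → Eqv (p * q) (q * p) := by decide +kernel
theorem inA_sq : ∀ p : QQ, InA p → Eqv 1 (p * p) := by decide +kernel
theorem inA_card : (Finset.univ.filter fun p : QQ => InA p).card = 16 := by decide +kernel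
theorem gen_QQ : ∀ p : QQ, ∃ a b c d : Fin 4,
    p = gi ^ (a : ℕ) * gj ^ (b : ℕ) * hi' ^ (c : ℕ) * hj' ^ (d : ℕ) := by decide +kernel
theorem gi_ne : ¬ Eqv 1 gi := by decide

variable (f : QQ →* S)

/-- The embedding hypothesis. -/
structure Ext (f : QQ →* S) : Prop where
  ker : ∀ p, f p = 1 ↔ Eqv 1 p
  self : ∀ x, (∀ p, f p * x = x * f p) → x ∈ f.range

namespace Ext

variable {f}

theorem eq_iff (hf : Ext f) {p q : QQ} : f p = f q ↔ Eqv p q := by
  rw [← inv_mul_eq_one, ← map_inv, ← map_mul, hf.ker]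
  constructor
  · rintro (h | h)
    · exact Or.inl (inv_mul_eq_one.1 h).symm
    · exact Or.inr (by rw [one_mul] at h; rw [← h, mul_inv_cancel_left])
  · rintro (h | h)
    · exact Or.inl (by rw [h, inv_mul_cancel])
    · exact Or.inr (by rw [h, inv_mul_cancel_left, one_mul])

/-- The candidate eight-group. -/
def grp (f : QQ →* S) : Subgroup S :=
  f.range ⊓ Subgroup.centralizer ({f di} : Set S) ⊓ Subgroup.centralizer ({f dj} : Set S)

theorem eqv_symm {p q : QQ} (h : Eqv p q) : Eqv q p := by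
  rcases h with h | h
  · exact Or.inl h.symm
  · exact Or.inr (by rw [h, mul_assoc, show zz * zz = 1 by decide, mul_one])

theorem mem_grp (hf : Ext f) {p : QQ} : f p ∈ grp f ↔ InA p := by
  show (f p ∈ f.range ∧ f p ∈ Subgroup.centralizer ({f di} : Set S)) ∧
    f p ∈ Subgroup.centralizer ({f dj} : Set S) ↔ _
  rw [Subgroup.mem_centralizer_singleton_iff, Subgroup.mem_centralizer_singleton_iff, ← map_mul, ← map_mul,
    ← map_mul, ← map_mul, hf.eq_iff, hf.eq_iff]
  exact ⟨fun h => ⟨eqv_symm h.1.2, eqv_symm h.2⟩, fun h => ⟨⟨⟨p, rfl⟩, eqv_symm h.1⟩, eqv_symm h.2⟩⟩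

theorem exists_pre {x : S} (hx : x ∈ grp f) : ∃ p, f p = x := hx.1.1

/-- An element swapping the two factors along the identity. -/
def Swaps (f : QQ →* S) (x : S) : Prop :=
  (x * f gi * x⁻¹ = f hi' ∨ x * f gi * x⁻¹ = f (hi' * (QuaternionGroup.a 2, 1))) ∧
    (x * f gj * x⁻¹ = f hj' ∨ x * f gj * x⁻¹ = f (hj' * (QuaternionGroup.a 2, 1))) ∧
      x * f di * x⁻¹ = f di ∧ x * f dj * x⁻¹ = f dj

theorem selfCent_or (hS : IsPGroup 2 S) (hf : Ext f) :
    SelfCent (grp f) ∨ ∃ x, Swaps f x := by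
  classical
  by_cases hsw : ∃ x, Swaps f x
  · exact Or.inr hsw
  left
  set A := grp f
  have hAc : ∀ a ∈ A, ∀ b ∈ A, a * b = b * a := by
    intro a ha b hb
    obtain ⟨p, rfl⟩ := exists_pre ha
    obtain ⟨q, rfl⟩ := exists_pre hb
    rw [← map_mul, ← map_mul, hf.eq_iff]
    exact inA_comm p (hf.mem_grp.1 ha) q (hf.mem_grp.1 hb)
  refine ⟨hAc, fun a ha => ?_, ?_, ?_⟩
  · obtain ⟨p, rfl⟩ := exists_pre ha
    rw [← map_mul, hf.ker]
    exact inA_sq p (hf.mem_grp.1 ha)
  · have h1 : Nat.card (A.comap f : Subgroup QQ) = 16 := by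
      rw [← inA_card, ← Nat.card_eq_finsetCard]
      exact Nat.card_congr (Equiv.subtypeEquivRight fun p => by simp [A, hf.mem_grp])
    have h2 := card_eq_ker_mul_map f (A.comap f)
    rw [Subgroup.map_comap_eq, inf_eq_right.2 (show A ≤ f.range from fun x hx => hx.1.1), h1,
      inf_eq_right.2 (show f.ker ≤ A.comap f from fun p hp => by
        show f p ∈ A; rw [MonoidHom.mem_ker.1 hp]; exact one_mem _)] at h2
    have h3 : Nat.card f.ker = 2 := by
      have : (f.ker : Set QQ) = (({1, zz} : Finset QQ) : Set QQ) := by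
        ext p
        simp only [SetLike.mem_coe, MonoidHom.mem_ker, hf.ker, Finset.coe_insert, Finset.coe_singleton,
          Set.mem_insert_iff, Set.mem_singleton_iff]
        show p = 1 ∨ p = 1 * zz ↔ _
        rw [one_mul]
      show Nat.card (f.ker : Set QQ) = 2
      rw [this, Nat.card_coe_set_eq, Set.ncard_coe_finset]
      decide
    rw [h3] at h2
    omega
  · -- the centralizer of `A`
    set R := f.range
    set X := Subgroup.centralizer (A : Set S)
    have hmid : ∀ x : S, (∀ y ∈ R, x * y * x⁻¹ ∈ R) → x ∈ X → x ∈ A := by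
      intro x hxR hxX
      obtain ⟨u, hu⟩ := hxR _ ⟨gi, rfl⟩
      obtain ⟨v, hv⟩ := hxR _ ⟨gj, rfl⟩
      have hfix : ∀ d : QQ, InA d → x * f d * x⁻¹ = f d := fun d hd => by
        rw [← Subgroup.mem_centralizer_iff.1 hxX _ (hf.mem_grp.2 hd), mul_inv_cancel_right]
      have hdi : x * f di * x⁻¹ = f di := hfix di (by decide)
      have hdj : x * f dj * x⁻¹ = f dj := hfix dj (by decide)
      let c : S →* S := (MulAut.conj x).toMonoidHom
      have hcu : c (f gi) = f u := hu.symm
      have hcv : c (f gj) = f v := hv.symm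
      have hcd : c (f di) = f di := hdi
      have hce : c (f dj) = f dj := hdj
      have hpow : ∀ p : QQ, Eqv 1 p → c (f p) = f p := fun p hp => by
        rw [(hf.ker p).2 hp, map_one]
      have hz : ∀ p ∈ ([gi * gi, gj * gj, gi * di * gi⁻¹ * di⁻¹, gi * dj * gi⁻¹ * dj⁻¹,
          gj * di * gj⁻¹ * di⁻¹, gj * dj * gj⁻¹ * dj⁻¹, gi * gj * gi⁻¹ * gj⁻¹, (gi * gj) * (gi * gj),
          (gi * gj) * di * (gi * gj)⁻¹ * di⁻¹] : List QQ), InA p := by decide +kernel
      have key : ∀ p q : QQ, InA p → c (f p) = f q → Eqv p q := fun p q hp h => by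
        rw [← hf.eq_iff, ← h]
        exact (hfix p hp).symm
      have hI : CandI u := ⟨key _ _ (hz _ (by simp)) (by simp only [map_mul, hcu]),
        key _ _ (hz _ (by simp)) (by simp only [map_mul, map_inv, hcu, hcd]),
        key _ _ (hz _ (by simp)) (by simp only [map_mul, map_inv, hcu, hce])⟩
      have hJ : CandJ v := ⟨key _ _ (hz _ (by simp)) (by simp only [map_mul, hcv]),
        key _ _ (hz _ (by simp)) (by simp only [map_mul, map_inv, hcv, hcd]),
        key _ _ (hz _ (by simp)) (by simp only [map_mul, map_inv, hcv, hce])⟩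
      obtain ⟨u', hu'm, hu'⟩ : ∃ u' ∈ ([gi, gi * (QuaternionGroup.a 2, 1), hi',
          hi' * (QuaternionGroup.a 2, 1)] : List QQ), f u = f u' := by
        rcases candI u hI with h | h | h | h <;>
          exact ⟨_, by simp, (hf.eq_iff.2 h).symm⟩
      obtain ⟨v', hv'm, hv'⟩ : ∃ v' ∈ ([gj, gj * (QuaternionGroup.a 2, 1), hj',
          hj' * (QuaternionGroup.a 2, 1)] : List QQ), f v = f v' := by
        rcases candJ v hJ with h | h | h | h <;>
          exact ⟨_, by simp, (hf.eq_iff.2 h).symm⟩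
      rw [hu'] at hcu
      rw [hv'] at hcv
      rcases model u' hu'm v' hv'm (key _ _ (hz _ (by simp)) (by simp only [map_mul, map_inv, hcu, hcv]))
        (key _ _ (hz _ (by simp)) (by simp only [map_mul, hcu, hcv]))
        (key _ _ (hz _ (by simp)) (by simp only [map_mul, map_inv, hcu, hcv, hcd])) with ⟨q, h1, h2, h3, h4⟩ | ⟨h3, h4⟩
      · -- inner
        set y := (f q)⁻¹ * x
        have hq1 : f q * f di = f di * f q := by rw [← map_mul, ← map_mul]; exact (hf.eq_iff.2 h1).symm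
        have hq2 : f q * f dj = f dj * f q := by rw [← map_mul, ← map_mul]; exact (hf.eq_iff.2 h2).symm
        have hq3 : f q * f gi * (f q)⁻¹ = f u' := by
          rw [← map_inv, ← map_mul, ← map_mul]; exact (hf.eq_iff.2 h3).symm
        have hq4 : f q * f gj * (f q)⁻¹ = f v' := by
          rw [← map_inv, ← map_mul, ← map_mul]; exact (hf.eq_iff.2 h4).symm
        have hy : ∀ d, c (f d) = f q * f d * (f q)⁻¹ → f d * y = y * f d := fun d hd => by
          have hd' : x * f d * x⁻¹ = f q * f d * (f q)⁻¹ := hd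
          calc f d * y = (f q)⁻¹ * (f q * f d * (f q)⁻¹) * x := by simp only [y]; group
            _ = y * f d := by rw [← hd']; simp only [y]; group
        have hyi := hy gi (hcu.trans hq3.symm)
        have hyj := hy gj (hcv.trans hq4.symm)
        have hydi := hy di (hcd.trans (by rw [hq1, mul_inv_cancel_right]))
        have hydj := hy dj (hce.trans (by rw [hq2, mul_inv_cancel_right]))
        have hyi' : f hi' * y = y * f hi' := by
          rw [show hi' = gi⁻¹ * di by decide, map_mul, map_inv]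
          exact ((Commute.inv_left (show Commute (f gi) y from hyi)).mul_left hydi).eq
        have hyj' : f hj' * y = y * f hj' := by
          rw [show hj' = gj⁻¹ * dj by decide, map_mul, map_inv]
          exact ((Commute.inv_left (show Commute (f gj) y from hyj)).mul_left hydj).eq
        have hyR : y ∈ R := hf.self y fun p => by
          obtain ⟨a, b, c', d, rfl⟩ := gen_QQ p
          simp only [map_mul, map_pow]
          exact ((((show Commute (f gi) y from hyi).pow_left _).mul_left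
            ((show Commute (f gj) y from hyj).pow_left _)).mul_left
            ((show Commute (f hi') y from hyi').pow_left _)).mul_left
            ((show Commute (f hj') y from hyj').pow_left _) |>.eq
        have hxR' : x ∈ R := by
          have := R.mul_mem ⟨q, rfl⟩ hyR
          rwa [mul_inv_cancel_left] at this
        obtain ⟨p, rfl⟩ := hxR'
        refine hf.mem_grp.2 ⟨?_, ?_⟩
        · rw [← hf.eq_iff, map_mul, map_mul]
          exact Subgroup.mem_centralizer_iff.1 hxX _ (hf.mem_grp.2 (by decide))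
        · rw [← hf.eq_iff, map_mul, map_mul]
          exact Subgroup.mem_centralizer_iff.1 hxX _ (hf.mem_grp.2 (by decide))
      · refine absurd ⟨x, ?_, ?_, hdi, hdj⟩ hsw
        · rcases h3 with h | h
          · exact Or.inl (hcu.trans (hf.eq_iff.2 h).symm)
          · exact Or.inr (hcu.trans (hf.eq_iff.2 h).symm)
        · rcases h4 with h | h
          · exact Or.inl (hcv.trans (hf.eq_iff.2 h).symm)
          · exact Or.inr (hcv.trans (hf.eq_iff.2 h).symm)
    intro x hx
    have hxX : x ∈ X := Subgroup.mem_centralizer_iff.2 hx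
    by_contra hxA
    -- a normalizer step inside `R ⊔ X`
    have hRA : ∀ r ∈ R, ∀ a ∈ A, r * a * r⁻¹ ∈ A := by
      rintro _ ⟨p, rfl⟩ a ha
      obtain ⟨q, rfl⟩ := exists_pre ha
      rw [← map_inv, ← map_mul, ← map_mul]
      refine hf.mem_grp.2 ?_
      have hcz : ∀ p q : QQ, InA q → InA (p * q * p⁻¹) := by decide +kernel
      exact hcz p q (hf.mem_grp.1 ha)
    have hRX : R ≤ Subgroup.normalizer (X : Set S) := by
      intro r hr
      refine Subgroup.mem_normalizer_iff.2 fun y => ⟨fun hy => ?_, fun hy => ?_⟩ <;>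
        refine Subgroup.mem_centralizer_iff.2 fun a ha => ?_
      · have h := Subgroup.mem_centralizer_iff.1 hy _ (hRA r⁻¹ (R.inv_mem hr) a ha)
        calc a * (r * y * r⁻¹) = r * ((r⁻¹ * a * r⁻¹⁻¹) * y) * r⁻¹ := by group
          _ = r * (y * (r⁻¹ * a * r⁻¹⁻¹)) * r⁻¹ := by rw [h]
          _ = r * y * r⁻¹ * a := by group
      · have h := Subgroup.mem_centralizer_iff.1 hy _ (hRA r hr a ha)
        calc a * y = r⁻¹ * ((r * a * r⁻¹) * (r * y * r⁻¹)) * r := by group
          _ = r⁻¹ * ((r * y * r⁻¹) * (r * a * r⁻¹)) * r := by rw [h]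
          _ = y * a := by group
    set L := R ⊔ X
    have hnotR : x ∉ R := fun h => hxA ⟨⟨h, Subgroup.mem_centralizer_singleton_iff.2 (hx _ (hf.mem_grp.2 (by decide))).symm⟩,
      Subgroup.mem_centralizer_singleton_iff.2 (hx _ (hf.mem_grp.2 (by decide))).symm⟩
    haveI := (hS.to_subgroup L).isNilpotent
    have hlt : R.subgroupOf L < ⊤ := lt_top_iff_ne_top.2 fun h => hnotR (by
      have := h ▸ Subgroup.mem_top (⟨x, Subgroup.mem_sup_right hxX⟩ : L)
      exact Subgroup.mem_subgroupOf.1 this)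
    obtain ⟨⟨g, hgL⟩, hgN, hgR⟩ := SetLike.exists_of_lt (Group.normalizerCondition_of_isNilpotent _ hlt)
    have hg' : g ∈ ((R ⊔ X : Subgroup S) : Set S) := hgL
    rw [Subgroup.coe_mul_of_left_le_normalizer_right _ _ hRX] at hg'
    obtain ⟨r, hr, y, hy, rfl⟩ := hg'
    have hyR : ∀ z ∈ R, y * z * y⁻¹ ∈ R := by
      intro z hz
      have h := (Subgroup.mem_normalizer_iff.1 hgN ⟨z, Subgroup.mem_sup_left hz⟩).1 (Subgroup.mem_subgroupOf.2 hz)
      have h' : r * y * z * (r * y)⁻¹ ∈ R := Subgroup.mem_subgroupOf.1 h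
      have := R.mul_mem (R.mul_mem (R.inv_mem hr) h') hr
      rwa [show r⁻¹ * (r * y * z * (r * y)⁻¹) * r = y * z * y⁻¹ by group] at this
    exact hgR (Subgroup.mem_subgroupOf.2 (R.mul_mem hr (hmid y hyR hy).1.1))

/-- Two twisted swaps are incompatible. -/
theorem not_both (hS : IsPGroup 2 S) (hf : Ext f) {x y : S} (hx : Swaps f x)
    (hy : Swaps (f.comp ((MonoidHom.id _).prodMap rot3)) y) : False := by
  classical
  obtain ⟨hx1, hx2, hx3, hx4⟩ := hx
  obtain ⟨hy1, hy2, hy3, hy4⟩ := hy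
  set g := y⁻¹ * x
  set c := (MulAut.conj g).toMonoidHom
  -- images modulo the centre
  set w : S := f (QuaternionGroup.a 2, 1)
  have hw : w * w = 1 := by rw [← map_mul, hf.ker]; decide
  let Rel : S → S → Prop := fun a b => b = a ∨ b = a * w
  have hwc : ∀ p : QQ, f p * w = w * f p := fun p => by
    rw [← map_mul, ← map_mul, hf.eq_iff]
    revert p; decide +kernel
  have hxw : x * w * x⁻¹ = w := by
    have h1 : w = f gi * f gi := by rw [← map_mul, hf.eq_iff]; decide
    rw [h1, show x * (f gi * f gi) * x⁻¹ = (x * f gi * x⁻¹) * (x * f gi * x⁻¹) by group]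
    rcases hx1 with e | e <;> rw [e, ← map_mul, ← map_mul, hf.eq_iff] <;> decide
  have hyw : y * w * y⁻¹ = w := by
    have h1 : w = (f.comp ((MonoidHom.id _).prodMap rot3)) gi * (f.comp ((MonoidHom.id _).prodMap rot3)) gi := by
      rw [← map_mul, MonoidHom.comp_apply, hf.eq_iff]; decide +kernel
    rw [h1, show ∀ a : S, y * (a * a) * y⁻¹ = (y * a * y⁻¹) * (y * a * y⁻¹) from fun a => by group]
    rcases hy1 with e | e <;> rw [e, ← map_mul, ← map_mul, MonoidHom.comp_apply, MonoidHom.comp_apply, hf.eq_iff] <;>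
      decide +kernel
  have hgw : g * w * g⁻¹ = w := by
    rw [show g * w * g⁻¹ = y⁻¹ * (x * w * x⁻¹) * y by simp only [g]; group, hxw]
    calc y⁻¹ * w * y = y⁻¹ * (y * w * y⁻¹) * y := by rw [hyw]
      _ = w := by group
  set F := f.comp ((MonoidHom.id _).prodMap rot3)
  -- relation bookkeeping
  have htrans : ∀ {a b d : S}, Rel a b → Rel b d → Rel a d := by
    rintro a b d (rfl | rfl) (rfl | rfl)
    exacts [Or.inl rfl, Or.inr rfl, Or.inr rfl, Or.inl (by rw [mul_assoc, hw, mul_one])]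
  have hconj : ∀ (h : S), h * w * h⁻¹ = w → ∀ {a b : S}, Rel a b → Rel (h * a * h⁻¹) (h * b * h⁻¹) := by
    rintro h hh a b (rfl | rfl)
    · exact Or.inl rfl
    · exact Or.inr (by rw [show h * (a * w) * h⁻¹ = (h * a * h⁻¹) * (h * w * h⁻¹) by group, hh])
  have hsymm : ∀ {a b : S}, Rel a b → Rel b a := by
    rintro a b (rfl | rfl)
    exacts [Or.inl rfl, Or.inr (by rw [mul_assoc, hw, mul_one])]
  have hyiw : y⁻¹ * w * y⁻¹⁻¹ = w := by
    calc y⁻¹ * w * y⁻¹⁻¹ = y⁻¹ * (y * w * y⁻¹) * y := by rw [hyw]; group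
      _ = w := by group
  -- `x` on the first factor, `y⁻¹` on the second
  have hxi : Rel (f hi') (x * f gi * x⁻¹) := by
    rcases hx1 with h | h
    · exact Or.inl h
    · exact Or.inr (h.trans (map_mul f _ _))
  have hxj : Rel (f hj') (x * f gj * x⁻¹) := by
    rcases hx2 with h | h
    · exact Or.inl h
    · exact Or.inr (h.trans (map_mul f _ _))
  have hgk : ∀ (a m : QQ) (b : S), Rel (f m) (x * f a * x⁻¹) → Rel b (y⁻¹ * f m * y⁻¹⁻¹) →
      Rel b (g * f a * g⁻¹) := by
    intro a m b h1 h2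
    have h3 := hconj y⁻¹ hyiw h1
    rw [show y⁻¹ * (x * f a * x⁻¹) * y⁻¹⁻¹ = g * f a * g⁻¹ by simp only [g]; group] at h3
    exact htrans h2 h3
  have hyinv : ∀ (a : S) (b : S), Rel b (y * a * y⁻¹) → Rel a (y⁻¹ * b * y⁻¹⁻¹) := by
    intro a b h
    have h3 := hconj y⁻¹ hyiw h
    rw [show y⁻¹ * (y * a * y⁻¹) * y⁻¹⁻¹ = a by group] at h3
    exact hsymm h3
  -- `F gi = f gi`, `F hi' = f hj'`, `F gj = f gj`, `F hj' = f (1, k)`
  have e1 : F gi = f gi := by simp [F]
  have e2 : F hi' = f hj' := by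
    show f _ = f _
    congr 1
  have e3 : F gj = f gj := by simp [F]
  have e4 : F hj' = f (hi' * hj') := by
    show f _ = f _
    congr 1
  have hyi2 : Rel (f gi) (y⁻¹ * f hj' * y⁻¹⁻¹) := by
    have h : Rel (F hi') (y * F gi * y⁻¹) := by
      rcases hy1 with h | h
      · exact Or.inl h
      · refine Or.inr (h.trans ?_)
        rw [map_mul]
        congr 1
    have h' := hyinv _ _ h
    rwa [e1, e2] at h'
  have hyj2 : Rel (f gj) (y⁻¹ * f (hi' * hj') * y⁻¹⁻¹) := by
    have h : Rel (F hj') (y * F gj * y⁻¹) := by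
      rcases hy2 with h | h
      · exact Or.inl h
      · refine Or.inr (h.trans ?_)
        rw [map_mul]
        congr 1
    have h' := hyinv _ _ h
    rwa [e3, e4] at h'
  -- so `g` cycles the three cosets
  have hgj : Rel (f gi) (g * f gj * g⁻¹) := hgk gj hj' (f gi) hxj hyi2
  have hgij : Rel (f gj) (g * f (gi * gj) * g⁻¹) := by
    refine hgk (gi * gj) (hi' * hj') (f gj) ?_ hyj2
    rw [map_mul, map_mul, show x * (f gi * f gj) * x⁻¹ = (x * f gi * x⁻¹) * (x * f gj * x⁻¹) by group]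
    rcases hxi with h1 | h1 <;> rcases hxj with h2 | h2 <;> rw [h1, h2]
    · exact Or.inl rfl
    · exact Or.inr (mul_assoc _ _ _).symm
    · exact Or.inr (by rw [mul_assoc, ← hwc, ← mul_assoc])
    · exact Or.inl (by rw [mul_assoc, ← mul_assoc w, ← hwc, mul_assoc (f hj'), hw, mul_one])
  have hgi : Rel (f (gi * gj)) (g * f gi * g⁻¹) := by
    have hmul : g * f gi * g⁻¹ = (g * f (gi * gj) * g⁻¹) * (g * f gj * g⁻¹)⁻¹ := by rw [map_mul]; group
    rw [hmul]
    rcases hgij with h | h <;> rcases hgj with h' | h' <;> rw [h, h'] <;>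
      simp only [Rel, w, ← map_inv, ← map_mul, hf.eq_iff] <;> decide +kernel
  -- hence `g ^ 3` fixes the coset of `gi`, and so does `g`
  have h3 : Rel (f gi) (g ^ 3 * f gi * (g ^ 3)⁻¹) := by
    have a1 := hconj g hgw hgi
    have a2 := htrans hgij a1
    have a3 := htrans hgj (hconj g hgw a2)
    rwa [show g * (g * (g * f gi * g⁻¹) * g⁻¹) * g⁻¹ = g ^ 3 * f gi * (g ^ 3)⁻¹ by
      simp only [pow_succ, pow_zero, one_mul]; group] at a3
  have h3w : g ^ 3 * w * (g ^ 3)⁻¹ = w := by
    rw [show g ^ 3 * w * (g ^ 3)⁻¹ = g * (g * (g * w * g⁻¹) * g⁻¹) * g⁻¹ by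
      simp only [pow_succ, pow_zero, one_mul]; group, hgw, hgw, hgw]
  obtain ⟨k, hk⟩ := hS g
  have hcop : Nat.Coprime 3 (orderOf g) :=
    Nat.Coprime.coprime_dvd_right (orderOf_dvd_of_pow_eq_one hk) ((by norm_num : Nat.Coprime 3 2).pow_right k)
  obtain ⟨m, hm⟩ := exists_pow_eq_self_of_coprime hcop
  have hall : ∀ n : ℕ, Rel (f gi) ((g ^ 3) ^ n * f gi * ((g ^ 3) ^ n)⁻¹) := by
    intro n
    induction n with
    | zero => exact Or.inl (by simp)
    | succ n ih =>
      have a1 := htrans h3 (hconj _ h3w ih)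
      rwa [show g ^ 3 * ((g ^ 3) ^ n * f gi * ((g ^ 3) ^ n)⁻¹) * (g ^ 3)⁻¹ =
        (g ^ 3) ^ (n + 1) * f gi * ((g ^ 3) ^ (n + 1))⁻¹ by rw [pow_succ' (g ^ 3)]; group] at a1
  have hfin := hall m
  rw [hm] at hfin
  have := htrans hgi (hsymm hfin)
  rcases this with h | h
  · rw [hf.eq_iff] at h; revert h; decide +kernel
  · rw [← map_mul, hf.eq_iff] at h; revert h; decide +kernel

theorem sectional (hS : IsPGroup 2 S) (hf : Ext f) : Cfsg.SectionalPRankLE 2 4 S := by
  rcases selfCent_or hS hf with h | ⟨x, hx⟩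
  · exact sectional_rank_le_four hS h
  set σ : QQ →* QQ := (MonoidHom.id _).prodMap rot3
  have hσ : Function.Bijective σ :=
    Finite.injective_iff_bijective.1 (Prod.map_injective.2 ⟨Function.injective_id, rot3_injective⟩)
  have hσz : σ zz = zz := by decide +kernel
  have hf' : Ext (f.comp σ) := by
    refine ⟨fun p => ?_, fun z hz => ?_⟩
    · rw [MonoidHom.comp_apply, hf.ker]
      constructor <;> rintro (h | h)
      · exact Or.inl (hσ.1 (by rw [h, map_one]))
      · exact Or.inr (hσ.1 (by rw [h, map_mul, map_one, hσz]))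
      · exact Or.inl (by rw [h, map_one])
      · exact Or.inr (by rw [h, map_mul, map_one, hσz])
    · obtain ⟨p, hp⟩ := hf.self z fun p => by
        obtain ⟨q, rfl⟩ := hσ.2 p
        exact hz q
      obtain ⟨q, rfl⟩ := hσ.2 p
      exact ⟨q, hp⟩
  rcases selfCent_or hS hf' with h | ⟨y, hy⟩
  · exact sectional_rank_le_four hS h
  · exact absurd (hf.not_both hS hx hy) id

end Ext

theorem sectional_of_extraspecial (hS : IsPGroup 2 S) (Q Q₁ Q₂ : Subgroup S) (e₁ : Q₁ ≃* QuaternionGroup 2)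
    (e₂ : Q₂ ≃* QuaternionGroup 2) (hcomm : ∀ a ∈ Q₁, ∀ b ∈ Q₂, a * b = b * a) (hQ : Q₁ ⊔ Q₂ = Q)
    (hQ32 : Nat.card Q = 32) (hC : Subgroup.centralizer (Q : Set S) ≤ Q) :
    Cfsg.SectionalPRankLE 2 4 S := by
  classical
  set f1 := Q₁.subtype.comp e₁.symm.toMonoidHom
  set f2 := Q₂.subtype.comp e₂.symm.toMonoidHom
  set f : QQ →* S := f1.noncommCoprod f2 (fun a b => hcomm _ (e₁.symm a).2 _ (e₂.symm b).2) with hfdef
  have hfap : ∀ k : QQ, f k = f1 k.1 * f2 k.2 := fun _ => rfl
  have hr1 : f1.range = Q₁ := by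
    rw [MonoidHom.range_comp, MonoidHom.range_eq_top.2 e₁.symm.surjective, ← MonoidHom.range_eq_map,
      Subgroup.range_subtype]
  have hr2 : f2.range = Q₂ := by
    rw [MonoidHom.range_comp, MonoidHom.range_eq_top.2 e₂.symm.surjective, ← MonoidHom.range_eq_map,
      Subgroup.range_subtype]
  have hrange : f.range = Q := by exact (MonoidHom.noncommCoprod_range f1 f2 _).trans (by rw [hr1, hr2, hQ])
  have hker2 : Nat.card f.ker = 2 := by
    have h := f.ker.card_mul_index
    rw [Subgroup.index_ker, hrange, hQ32, Nat.card_prod, Nat.card_eq_fintype_card (α := QuaternionGroup 2),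
      QuaternionGroup.card] at h
    omega
  obtain ⟨k, hkker, hk1⟩ : ∃ k ∈ f.ker, k ≠ 1 := by
    by_contra h
    push Not at h
    rw [(Subgroup.eq_bot_iff_forall _).2 h, Subgroup.card_bot] at hker2
    omega
  have hinj1 : Function.Injective f1 := Subtype.val_injective.comp e₁.symm.injective
  have hinj2 : Function.Injective f2 := Subtype.val_injective.comp e₂.symm.injective
  -- the kernel is generated by the diagonal central element
  have hkeq : k = zz := by
    have h1 : ∀ q : QuaternionGroup 2, f1 (k.1 * q) = f1 (q * k.1) := by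
      intro q
      have hk' : f1 k.1 = (f2 k.2)⁻¹ := eq_inv_of_mul_eq_one_left (MonoidHom.mem_ker.1 hkker)
      rw [map_mul, map_mul, hk']
      exact (Commute.inv_left (show Commute (f2 k.2) (f1 q) from
        (hcomm _ (e₁.symm q).2 _ (e₂.symm k.2).2).symm)).eq
    have h2 : ∀ q : QuaternionGroup 2, f2 (k.2 * q) = f2 (q * k.2) := by
      intro q
      have hk' : f2 k.2 = (f1 k.1)⁻¹ := eq_inv_of_mul_eq_one_right (MonoidHom.mem_ker.1 hkker)
      rw [map_mul, map_mul, hk']
      exact (Commute.inv_left (show Commute (f1 k.1) (f2 q) from hcomm _ (e₁.symm k.1).2 _ (e₂.symm q).2)).eq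
    have hcen : ∀ a : QuaternionGroup 2, (∀ q, a * q = q * a) → a = 1 ∨ a = QuaternionGroup.a 2 := by
      decide +kernel
    rcases hcen _ (fun q => hinj1 (h1 q)) with ha | ha <;> rcases hcen _ (fun q => hinj2 (h2 q)) with hb | hb
    · exact absurd (Prod.ext ha hb) hk1
    · have h := MonoidHom.mem_ker.1 hkker
      rw [hfap, ha, map_one, one_mul, hb, ← map_one f2] at h
      exact absurd (hinj2 h) (by decide)
    · have h := MonoidHom.mem_ker.1 hkker
      rw [hfap, hb, map_one, mul_one, ha, ← map_one f1] at h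
      exact absurd (hinj1 h) (by decide)
    · exact Prod.ext ha hb
  refine Ext.sectional hS (f := f) ⟨fun p => ⟨fun hp => ?_, fun hp => ?_⟩, fun x hx => ?_⟩
  · by_cases hp1 : p = 1
    · exact Or.inl hp1
    · right
      haveI : Fintype f.ker := Fintype.ofFinite _
      by_contra hne
      rw [one_mul] at hne
      have : (2 : ℕ) < Fintype.card f.ker := Fintype.two_lt_card_iff.2
        ⟨1, ⟨k, hkker⟩, ⟨p, hp⟩, fun e => hk1 (congrArg Subtype.val e).symm,
          fun e => hp1 (congrArg Subtype.val e).symm,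
          fun e => hne ((congrArg Subtype.val e).symm.trans hkeq)⟩
      rw [← Nat.card_eq_fintype_card, hker2] at this
      omega
  · rcases hp with rfl | rfl
    · exact map_one f
    · rw [one_mul, ← hkeq]; exact MonoidHom.mem_ker.1 hkker
  · rw [hrange]
    refine hC (Subgroup.mem_centralizer_iff.2 fun q hq => ?_)
    obtain ⟨p, rfl⟩ := hrange.ge hq
    exact hx p

end CfsgLib.TwoGroups.SelfCentEight
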