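import Cfsg.Agent.Lib.TwoGroups.SelfCentEight.Basic

/-!
A flag of a normal elementary abelian subgroup of order eight, invariant under the whole 2-group,
and the resulting bound on the group of induced automorphisms.
-/

set_option autoImplicit false
set_option linter.style.haveILetI false
set_option linter.unusedSectionVars false

namespace CfsgLib.TwoGroups.SelfCentEight

open CfsgLib.TwoGroups.NormalRankTwo

variable {S : Type*} [Group S] [Finite S] {V : Subgroup S}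

/-- The four-group `{1, a, b, ab}`. -/
def four {a b : S} (ha : a * a = 1) (hb : b * b = 1) (hab : a * b = b * a) : Subgroup S where
  carrier := {x | x = 1 ∨ x = a ∨ x = b ∨ x = a * b}
  one_mem' := Or.inl rfl
  mul_mem' := by
    have h1 : ∀ x, a * (a * x) = x := fun x => by rw [← mul_assoc, ha, one_mul]
    have h2 : ∀ x, b * (b * x) = x := fun x => by rw [← mul_assoc, hb, one_mul]
    have h3 : ∀ x, b * (a * x) = a * (b * x) := fun x => by rw [← mul_assoc, ← hab, mul_assoc]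
    rintro x y (rfl | rfl | rfl | rfl) (rfl | rfl | rfl | rfl) <;>
      simp [ha, hb, mul_assoc, h1, h2, h3, hab.symm]
  inv_mem' := by
    have hai := inv_eq_of_mul_eq_one_right ha
    have hbi := inv_eq_of_mul_eq_one_right hb
    rintro x (rfl | rfl | rfl | rfl) <;> simp [hai, hbi, hab.symm]

theorem mem_four {a b x : S} {ha : a * a = 1} {hb : b * b = 1} {hab : a * b = b * a} :
    x ∈ four ha hb hab ↔ x = 1 ∨ x = a ∨ x = b ∨ x = a * b := Iff.rfl

theorem card_four {a b : S} {ha : a * a = 1} {hb : b * b = 1} {hab : a * b = b * a}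
    (ha1 : a ≠ 1) (hb1 : b ≠ 1) (hne : a ≠ b) : Nat.card (four ha hb hab) = 4 := by
  classical
  have hab1 : a * b ≠ 1 := fun h => hne (by
    calc a = a * (b * b) := by rw [hb, mul_one]
      _ = b := by rw [← mul_assoc, h, one_mul])
  have : ((four ha hb hab : Subgroup S) : Set S) = (({1, a, b, a * b} : Finset S) : Set S) := by
    ext x
    simp [mem_four]
  show Nat.card ((four ha hb hab : Subgroup S) : Set S) = 4
  rw [this, Nat.card_coe_set_eq, Set.ncard_coe_finset, Finset.card_insert_of_notMem,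
    Finset.card_insert_of_notMem, Finset.card_pair]
  · exact fun h => ha1 (by
      calc a = a * b * b⁻¹ := (mul_inv_cancel_right a b).symm
        _ = 1 := by rw [← h, mul_inv_cancel])
  · simp only [Finset.mem_insert, Finset.mem_singleton, not_or]
    exact ⟨hne, fun h => hb1 (mul_eq_left.1 h.symm)⟩
  · simp only [Finset.mem_insert, Finset.mem_singleton, not_or]
    exact ⟨Ne.symm ha1, Ne.symm hb1, Ne.symm hab1⟩

theorem eq_one_or_of_mem_zpowers {c x : S} (hc : c * c = 1) (hx : x ∈ Subgroup.zpowers c) :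
    x = 1 ∨ x = c := by
  obtain ⟨n, rfl⟩ := Subgroup.mem_zpowers_iff.1 hx
  rcases Int.even_or_odd n with ⟨m, rfl⟩ | ⟨m, rfl⟩
  · exact Or.inl (by rw [zpow_add, ← (Commute.refl c).mul_zpow, hc, one_zpow])
  · exact Or.inr (by rw [zpow_add, two_mul, zpow_add, ← (Commute.refl c).mul_zpow, hc, one_zpow,
      zpow_one, one_mul])

/-- A subgroup with twice the order absorbs products of two outside elements. -/
theorem mul_mem_of_card {K L : Subgroup S} (hKL : K ≤ L) (hc : Nat.card L = 2 * Nat.card K) {a b : S}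
    (ha : a ∈ L) (hb : b ∈ L) (haK : a ∉ K) (hbK : b ∉ K) : a * b ∈ K := by
  have hr : K.relIndex L = 2 :=
    Nat.eq_of_mul_eq_mul_right Nat.card_pos ((relIndex_mul_card hKL).trans hc)
  have := (Subgroup.mul_mem_iff_of_index_two hr (a := (⟨a, ha⟩ : L)) (b := ⟨b, hb⟩)).2
    ⟨fun h => absurd h haK, fun h => absurd h hbK⟩
  exact this

theorem mv_hom_mul (hV : Eight V) (s : S) {u v : S} (hu : u ∈ V) (hv : v ∈ V) :
    mv s (u * v) = mv s u * mv s v :=
  mv_mul_of hV s (le_cen hV hv) (mv_mem hV s hu)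

/-- The elements of `V` whose displacement by `s` lies in `T`. -/
def shift (hV : Eight V) (s : S) (T : Subgroup S) : Subgroup S where
  carrier := {v | v ∈ V ∧ mv s v ∈ T}
  one_mem' := ⟨V.one_mem, by simp [mv]⟩
  mul_mem' {a b} ha hb := ⟨V.mul_mem ha.1 hb.1, by
    rw [mv_hom_mul hV s ha.1 hb.1]; exact T.mul_mem ha.2 hb.2⟩
  inv_mem' {a} ha := ⟨V.inv_mem ha.1, by rw [inv_eq hV ha.1]; exact ha.2⟩

/-- An invariant flag of `V`. -/
structure Flag (V : Subgroup S) (c1 c2 c3 : S) : Prop where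
  eight : Eight V
  m1 : c1 ∈ V
  m2 : c2 ∈ V
  m3 : c3 ∈ V
  ne1 : c1 ≠ 1
  ne2 : c2 ≠ 1
  ne12 : c1 ≠ c2
  out3 : c3 ≠ 1 ∧ c3 ≠ c1 ∧ c3 ≠ c2 ∧ c3 ≠ c1 * c2
  fix1 : ∀ s : S, mv s c1 = 1
  fix2 : ∀ s : S, mv s c2 = 1 ∨ mv s c2 = c1
  fix3 : ∀ s : S, mv s c3 = 1 ∨ mv s c3 = c1 ∨ mv s c3 = c2 ∨ mv s c3 = c1 * c2

namespace Flag

variable {c1 c2 c3 : S}

/-- The second term of the flag. -/
def D (F : Flag V c1 c2 c3) : Subgroup S :=
  four (F.eight.sq c1 F.m1) (F.eight.sq c2 F.m2) (F.eight.comm c1 F.m1 c2 F.m2)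

theorem D_le (F : Flag V c1 c2 c3) : F.D ≤ V := by
  rintro x (rfl | rfl | rfl | rfl)
  exacts [V.one_mem, F.m1, F.m2, V.mul_mem F.m1 F.m2]

theorem card_D (F : Flag V c1 c2 c3) : Nat.card F.D = 4 := card_four F.ne1 F.ne2 F.ne12

theorem c3_notin (F : Flag V c1 c2 c3) : c3 ∉ F.D := by
  rintro (h | h | h | h)
  exacts [F.out3.1 h, F.out3.2.1 h, F.out3.2.2.1 h, F.out3.2.2.2 h]

theorem span (F : Flag V c1 c2 c3) {K : Subgroup S} (h1 : c1 ∈ K) (h2 : c2 ∈ K) (h3 : c3 ∈ K) :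
    V ≤ K := by
  intro v hv
  have hD : F.D ≤ K := by
    rintro x (rfl | rfl | rfl | rfl)
    exacts [K.one_mem, h1, h2, K.mul_mem h1 h2]
  by_cases h : v ∈ F.D
  · exact hD h
  · have := mul_mem_of_card F.D_le (by rw [F.eight.card, F.card_D]) hv F.m3 h F.c3_notin
    exact (K.mul_mem_cancel_right h3).1 (hD this)

/-- Two elements acting alike on the flag act alike on `V`. -/
theorem alike (F : Flag V c1 c2 c3) {s t : S} (h2 : mv s c2 = mv t c2) (h3 : mv s c3 = mv t c3) :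
    s⁻¹ * t ∈ cen V := by
  have key : ∀ c, mv s c = mv t c → c ∈ Subgroup.centralizer ({s⁻¹ * t} : Set S) := by
    intro c h
    have hc : s * c * s⁻¹ = t * c * t⁻¹ := by rw [conj_eq, conj_eq, h]
    refine Subgroup.mem_centralizer_singleton_iff.2 ?_
    calc c * (s⁻¹ * t) = s⁻¹ * (s * c * s⁻¹) * t := by group
      _ = s⁻¹ * t * c := by rw [hc]; group
  have hsp := F.span (key c1 (by rw [F.fix1 s, F.fix1 t])) (key c2 h2) (key c3 h3)
  exact mem_cen.2 fun v hv => Subgroup.mem_centralizer_singleton_iff.1 (hsp hv)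

theorem mem_cen_of_fix (F : Flag V c1 c2 c3) {s : S} (h2 : mv s c2 = 1) (h3 : mv s c3 = 1) :
    s ∈ cen V := by
  have h : ∀ x : S, mv (1 : S) x = 1 := fun x => by simp [mv]
  simpa using F.alike (s := 1) (t := s) ((h c2).trans h2.symm) ((h c3).trans h3.symm)

theorem shift_all (F : Flag V c1 c2 c3) {s : S} {T : Subgroup S} (h2 : mv s c2 ∈ T) (h3 : mv s c3 ∈ T) :
    ∀ v ∈ V, mv s v ∈ T := fun v hv =>
  ((F.span (K := shift F.eight s T) ⟨F.m1, by rw [F.fix1 s]; exact T.one_mem⟩ ⟨F.m2, h2⟩ ⟨F.m3, h3⟩) hv).2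

theorem exists_coset_inj {α : Type*} [Finite α] {H : Subgroup S} (φ : H → α)
    (hφ : ∀ a b : H, φ a = φ b → (a : S)⁻¹ * b ∈ cen V) :
    (cen V).relIndex H ≤ Nat.card α ∧
      (Nat.card α ≤ (cen V).relIndex H → ∀ x, ∃ h, φ h = x) := by
  classical
  let G : H ⧸ (cen V).subgroupOf H → α := fun x => φ x.out
  have hG : Function.Injective G := fun x y e => by
    rw [← QuotientGroup.out_eq' x, ← QuotientGroup.out_eq' y, QuotientGroup.eq, Subgroup.mem_subgroupOf]
    exact hφ _ _ e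
  have hle := Nat.card_le_card_of_injective G hG
  refine ⟨hle, fun h x => ?_⟩
  obtain ⟨q, hq⟩ := ((Nat.bijective_iff_injective_and_card G).2 ⟨hG, le_antisymm hle h⟩).2 x
  exact ⟨q.out, hq⟩

/-- The possible actions of an element on the flag. -/
def Beh (F : Flag V c1 c2 c3) : Type _ :=
  Subgroup.zpowers c1 × F.D

noncomputable instance (F : Flag V c1 c2 c3) : Finite F.Beh :=
  inferInstanceAs (Finite (Subgroup.zpowers c1 × F.D))

/-- The action of `s` on the flag. -/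
def beh (F : Flag V c1 c2 c3) (s : S) : F.Beh :=
  (⟨mv s c2, by
    rcases F.fix2 s with h | h <;> rw [h]
    exacts [one_mem _, Subgroup.mem_zpowers c1]⟩, ⟨mv s c3, F.fix3 s⟩)

theorem card_zpowers (F : Flag V c1 c2 c3) : Nat.card (Subgroup.zpowers c1) = 2 := by
  rw [Nat.card_zpowers]
  haveI : Fact (Nat.Prime 2) := ⟨Nat.prime_two⟩
  exact orderOf_eq_prime (by rw [pow_two]; exact F.eight.sq c1 F.m1) F.ne1

theorem card_beh (F : Flag V c1 c2 c3) : Nat.card F.Beh = 8 := by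
  show Nat.card (Subgroup.zpowers c1 × F.D) = 8
  rw [Nat.card_prod, F.card_zpowers, F.card_D]

theorem beh_alike (F : Flag V c1 c2 c3) {s t : S} (h : F.beh s = F.beh t) : s⁻¹ * t ∈ cen V :=
  F.alike (congrArg (fun p : Subgroup.zpowers c1 × F.D => (p.1 : S)) h)
    (congrArg (fun p : Subgroup.zpowers c1 × F.D => (p.2 : S)) h)

/-- The quotient by the centralizer has no elementary abelian subgroup of order eight. -/
theorem relIndex_sq_map_le_four (hS : IsPGroup 2 S) (F : Flag V c1 c2 c3) (H : Subgroup S) :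
    haveI := cen_normal F.eight
    (sq (H.map (QuotientGroup.mk' (cen V)))).relIndex (H.map (QuotientGroup.mk' (cen V))) ≤ 4 := by
  haveI := cen_normal F.eight
  set f := QuotientGroup.mk' (cen V)
  set W := H.map f
  have hq : Nat.card W = (cen V).relIndex H := by
    rw [← Subgroup.relIndex_ker (K := H) f, QuotientGroup.ker_mk']
  obtain ⟨hle, hsurj⟩ := exists_coset_inj (V := V) (H := H) (fun h => F.beh h) fun a b h => F.beh_alike h
  rw [F.card_beh] at hle hsurj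
  have hcard := relIndex_mul_card (sq_le W)
  obtain ⟨k, hk⟩ := relIndex_sq_pow_two (hS.to_quotient (cen V)) W
  rw [hk] at hcard ⊢
  by_contra hcon
  have hk3 : 3 ≤ k := by
    by_contra h
    exact hcon ((Nat.pow_le_pow_right two_pos (show k ≤ 2 by omega)).trans (by norm_num))
  have h8 : 8 ≤ 2 ^ k := le_trans (by norm_num) (Nat.pow_le_pow_right two_pos hk3)
  have hpos : 0 < Nat.card (sq W) := Nat.card_pos
  have hsq : sq W = ⊥ := Subgroup.card_eq_one.1 (by nlinarith)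
  have hs := hsurj (by nlinarith)
  obtain ⟨s, hs'⟩ := hs ((⟨c1, Subgroup.mem_zpowers c1⟩, ⟨1, one_mem _⟩) : Subgroup.zpowers c1 × F.D)
  obtain ⟨t, ht'⟩ := hs ((⟨1, one_mem _⟩, ⟨c2, Or.inr (Or.inr (Or.inl rfl))⟩) : Subgroup.zpowers c1 × F.D)
  have hs2 : mv (s : S) c2 = c1 := congrArg (fun p : Subgroup.zpowers c1 × F.D => (p.1 : S)) hs'
  have hs3 : mv (s : S) c3 = 1 := congrArg (fun p : Subgroup.zpowers c1 × F.D => (p.2 : S)) hs'
  have ht3 : mv (t : S) c3 = c2 := congrArg (fun p : Subgroup.zpowers c1 × F.D => (p.2 : S)) ht'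
  -- the images commute
  have hcomm := commutator_mem_sq (Subgroup.mem_map_of_mem f s.2) (Subgroup.mem_map_of_mem f t.2)
  rw [hsq, Subgroup.mem_bot, ← map_mul, ← map_inv, ← map_mul, ← map_inv, ← map_mul] at hcomm
  have hc := mem_cen.1 ((QuotientGroup.eq_one_iff _).1 hcomm) ((t : S) * ((s : S) * c3 * (s : S)⁻¹) * (t : S)⁻¹)
    (F.eight.normal.conj_mem _ (F.eight.normal.conj_mem _ F.m3 _) _)
  have e1 : (s : S) * ((t : S) * c3 * (t : S)⁻¹) * (s : S)⁻¹ = c3 * (c2 * c1) := by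
    rw [conj_eq (t : S) c3, ht3]
    calc (s : S) * (c3 * c2) * (s : S)⁻¹ = ((s : S) * c3 * (s : S)⁻¹) * ((s : S) * c2 * (s : S)⁻¹) := by group
      _ = _ := by rw [conj_eq, hs3, mul_one, conj_eq, hs2]
  have e2 : (t : S) * ((s : S) * c3 * (s : S)⁻¹) * (t : S)⁻¹ = c3 * c2 := by
    rw [conj_eq (s : S) c3, hs3, mul_one, conj_eq, ht3]
  have e3 : (s : S) * ((t : S) * c3 * (t : S)⁻¹) * (s : S)⁻¹ =
      (t : S) * ((s : S) * c3 * (s : S)⁻¹) * (t : S)⁻¹ := by
    calc _ = ((s : S) * t * (s : S)⁻¹ * (t : S)⁻¹) * ((t : S) * ((s : S) * c3 * (s : S)⁻¹) * (t : S)⁻¹) *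
          ((s : S) * t * (s : S)⁻¹ * (t : S)⁻¹)⁻¹ := by group
      _ = _ := by rw [← hc, mul_inv_cancel_right]
  rw [e1, e2] at e3
  exact F.ne1 (mul_eq_left.1 (mul_left_cancel e3))

end Flag

theorem exists_flag (hS : IsPGroup 2 S) (hV : Eight V) : ∃ c1 c2 c3 : S, Flag V c1 c2 c3 := by
  classical
  haveI : Fact (Nat.Prime 2) := ⟨Nat.prime_two⟩
  haveI := hV.normal
  have hVne : V ≠ ⊥ := fun h => by
    have := hV.card
    rw [h, Subgroup.card_bot] at this
    omega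
  have hne := CfsgLib.PGroups.inf_center_ne_bot hS hVne
  obtain ⟨c1, hc1, hc1ne⟩ : ∃ c ∈ V ⊓ Subgroup.center S, c ≠ 1 := by
    by_contra h
    push Not at h
    exact hne (Subgroup.eq_bot_iff_forall _ |>.2 h)
  have hcc := hV.sq c1 hc1.1
  have fix1 : ∀ s : S, mv s c1 = 1 := fun s => mv_eq_one.2 (Subgroup.mem_center_iff.1 hc1.2 s)
  haveI : (Subgroup.zpowers c1).Normal := ⟨fun n hn g => by
    rcases eq_one_or_of_mem_zpowers hcc hn with rfl | rfl
    · simp
    · rw [Subgroup.mem_center_iff.1 hc1.2 g, mul_inv_cancel_right]; exact hn⟩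
  have hnot : ¬ V ≤ Subgroup.zpowers c1 := fun h => by
    have := Subgroup.card_le_of_le h
    rw [hV.card, Nat.card_zpowers, orderOf_eq_prime (p := 2) (by rw [pow_two]; exact hcc) hc1ne] at this
    omega
  obtain ⟨c2, hc2, hc2n, -, hc2s⟩ := exists_layer hS hV.normal hnot
  have hc21 : c2 ≠ 1 := fun h => hc2n (h ▸ one_mem _)
  have hne12 : c1 ≠ c2 := fun h => hc2n (h ▸ Subgroup.mem_zpowers c1)
  set D := four hcc (hV.sq c2 hc2) (hV.comm c1 hc1.1 c2 hc2)
  have hDV : D ≤ V := by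
    rintro x (rfl | rfl | rfl | rfl)
    exacts [V.one_mem, hc1.1, hc2, V.mul_mem hc1.1 hc2]
  have hD4 : Nat.card D = 4 := card_four hc1ne hc21 hne12
  obtain ⟨c3, hc3, hc3n⟩ : ∃ c ∈ V, c ∉ D := SetLike.not_le_iff_exists.1 fun h => by
    have := Subgroup.card_le_of_le h
    rw [hV.card, hD4] at this
    omega
  have hout : c3 ≠ 1 ∧ c3 ≠ c1 ∧ c3 ≠ c2 ∧ c3 ≠ c1 * c2 :=
    ⟨fun h => hc3n (Or.inl h), fun h => hc3n (Or.inr (Or.inl h)),
      fun h => hc3n (Or.inr (Or.inr (Or.inl h))), fun h => hc3n (Or.inr (Or.inr (Or.inr h)))⟩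
  have hDn : ∀ s : S, ∀ x ∈ D, s * x * s⁻¹ ∈ D := by
    have h2 : ∀ s : S, s * c2 * s⁻¹ ∈ D := fun s => by
      rw [conj_eq]
      exact D.mul_mem (Or.inr (Or.inr (Or.inl rfl))) (by
        rcases eq_one_or_of_mem_zpowers hcc (hc2s s) with h | h <;> rw [h]
        exacts [one_mem _, Or.inr (Or.inl rfl)])
    have h1 : ∀ s : S, s * c1 * s⁻¹ ∈ D := fun s => by
      rw [conj_eq, fix1, mul_one]; exact Or.inr (Or.inl rfl)
    rintro s x (rfl | rfl | rfl | rfl)
    · simp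
    · exact h1 s
    · exact h2 s
    · rw [show s * (c1 * c2) * s⁻¹ = (s * c1 * s⁻¹) * (s * c2 * s⁻¹) by group]
      exact D.mul_mem (h1 s) (h2 s)
  refine ⟨c1, c2, c3, hV, hc1.1, hc2, hc3, hc1ne, hc21, hne12, hout, fix1,
    fun s => eq_one_or_of_mem_zpowers hcc (hc2s s), fun s => ?_⟩
  refine mul_mem_of_card hDV (by rw [hV.card, hD4]) (V.inv_mem hc3) (hV.normal.conj_mem c3 hc3 s)
    (fun h => hc3n ((D.inv_mem_iff).1 h)) fun h => hc3n ?_
  have := hDn s⁻¹ _ h
  rwa [inv_inv, show s⁻¹ * (s * c3 * s⁻¹) * s = c3 by group] at this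

end CfsgLib.TwoGroups.SelfCentEight
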