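import Cfsg.Agent.Lib.TwoGroups.SelfCentEight.Basic

/-!
2-groups with an elementary abelian subgroup `T` of order sixteen containing a four-group all of
whose involutions have centralizer inside `T`: the order is at most 128 and `|H : H²| ≤ 16`.
-/

set_option autoImplicit false
set_option linter.style.haveILetI false
set_option linter.unusedSectionVars false

namespace CfsgLib.TwoGroups.SelfCentEight

open CfsgLib.TwoGroups.NormalRankTwo

variable {S : Type*} [Group S] [Finite S]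

theorem card_mul_card_le {A B T : Subgroup S} (hA : A ≤ T) (hB : B ≤ T) (h : A ⊓ B = ⊥) :
    Nat.card A * Nat.card B ≤ Nat.card T := by
  rw [← Nat.card_prod]
  refine Nat.card_le_card_of_injective
    (fun p : A × B => (⟨(p.1 : S) * p.2, T.mul_mem (hA p.1.2) (hB p.2.2)⟩ : T)) fun p q e => ?_
  have e' : (p.1 : S) * p.2 = q.1 * q.2 := congrArg Subtype.val e
  have hm : (q.1 : S)⁻¹ * p.1 ∈ A ⊓ B := ⟨A.mul_mem (A.inv_mem q.1.2) p.1.2, by
    rw [show (q.1 : S)⁻¹ * p.1 = (q.2 : S) * (p.2 : S)⁻¹ by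
      rw [eq_mul_inv_iff_mul_eq, mul_assoc, e', inv_mul_cancel_left]]
    exact B.mul_mem q.2.2 (B.inv_mem p.2.2)⟩
  rw [h, Subgroup.mem_bot, inv_mul_eq_one] at hm
  rw [← hm] at e'
  exact Prod.ext (Subtype.ext hm.symm) (Subtype.ext (mul_left_cancel e'))

/-- The hypothesis. -/
structure Sixteen (T B : Subgroup S) : Prop where
  comm : ∀ a ∈ T, ∀ b ∈ T, a * b = b * a
  sq : ∀ a ∈ T, a * a = 1
  card : Nat.card T = 16
  le : B ≤ T
  cardB : Nat.card B = 4
  self : ∀ b ∈ B, b ≠ 1 → ∀ s : S, s * b = b * s → s ∈ T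

namespace Sixteen

variable {T B : Subgroup S}

/-- The fixed points in `T` of an element. -/
def fixed (T : Subgroup S) (r : S) : Subgroup S := T ⊓ Subgroup.centralizer ({r} : Set S)

theorem mem_fixed {r u : S} : u ∈ fixed T r ↔ u ∈ T ∧ u * r = r * u := by
  rw [fixed, Subgroup.mem_inf, Subgroup.mem_centralizer_singleton_iff]

theorem card_le_four (hT : Sixteen T B) {A : Subgroup S} (hA : A ≤ T) (h : A ⊓ B = ⊥) :
    Nat.card A ≤ 4 := by
  have := card_mul_card_le hA hT.le h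
  rw [hT.cardB, hT.card] at this
  omega

theorem card_fixed (hT : Sixteen T B) {r : S} (hr : r ∉ T) : Nat.card (fixed T r) ≤ 4 := by
  refine hT.card_le_four inf_le_left ((Subgroup.eq_bot_iff_forall _).2 fun b hb => ?_)
  by_contra h1
  exact hr (hT.self b hb.2 h1 r ((mem_fixed.1 hb.1).2).symm)

/-- `[T, r]` has at least four elements. -/
theorem four_le_of_contains (hT : Sixteen T B) {r : S} (hr : r ∈ Subgroup.normalizer (T : Set S))
    (hrT : r ∉ T) {K : Subgroup S} (hK : ∀ u ∈ T, mv r u ∈ K) : 4 ≤ Nat.card (K ⊓ T : Subgroup S) := by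
  have hmem : ∀ u ∈ T, mv r u ∈ T := fun u hu =>
    T.mul_mem (T.inv_mem hu) ((Subgroup.mem_normalizer_iff.1 hr u).1 hu)
  let φ : T →* S := MonoidHom.mk' (fun u => mv r (u : S)) fun x y => by
    show mv r ((x : S) * y) = mv r x * mv r y
    rw [mv_mul, mul_assoc (y : S)⁻¹, hT.comm _ (hmem x x.2) y y.2, inv_mul_cancel_left]
  have hker : φ.ker = (fixed T r).subgroupOf T := by
    ext u
    rw [MonoidHom.mem_ker, Subgroup.mem_subgroupOf, mem_fixed]
    exact ⟨fun h => ⟨u.2, (mv_eq_one.1 h).symm⟩, fun h => mv_eq_one.2 h.2.symm⟩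
  have hidx : (fixed T r).relIndex T = Nat.card φ.range := by
    rw [Subgroup.relIndex, ← hker, Subgroup.index_ker]
  have hle : φ.range ≤ K ⊓ T := by
    rintro _ ⟨u, rfl⟩
    exact ⟨hK u u.2, hmem u u.2⟩
  have h1 := relIndex_mul_card (show fixed T r ≤ T from inf_le_left)
  have h2 := hT.card_fixed hrT
  have h3 := Subgroup.card_le_of_le hle
  rw [hidx, hT.card] at h1
  nlinarith

theorem relIndex_normalizer (hS : IsPGroup 2 S) (hT : Sixteen T B) :
    T.relIndex (Subgroup.normalizer (T : Set S)) ≤ 4 := by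
  classical
  haveI : Fact (Nat.Prime 2) := ⟨Nat.prime_two⟩
  set N := Subgroup.normalizer (T : Set S)
  set T' := T.subgroupOf N
  haveI : T'.Normal := Subgroup.normal_subgroupOf_of_le_normalizer le_rfl
  have hN := hS.to_subgroup N
  have hT'card : Nat.card T' = 16 := by
    rw [← hT.card]
    exact Nat.card_congr (Subgroup.subgroupOfEquivOfLe Subgroup.le_normalizer).toEquiv
  obtain ⟨W, hWn, hWT, hW4, -⟩ := CfsgLib.Transfer.exists_normal_card hN T' 2
    (by rw [hT'card]; norm_num)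
  haveI := hWn
  have hnot : ¬ T' ≤ W := fun h => by
    have := Subgroup.card_le_of_le h
    rw [hT'card, hW4] at this
    omega
  obtain ⟨e, heT, heW, -, hecen⟩ := exists_layer hN (W := W) (D := T') inferInstance hnot
  have heT' : (e : S) ∈ T := heT
  set W2 := W.map N.subtype
  have hW2 : Nat.card W2 = 4 := by
    rw [Nat.card_congr (W.equivMapOfInjective _ (Subgroup.subtype_injective N)).symm.toEquiv, hW4]
    norm_num
  have hW2T : W2 ≤ T := by
    rintro _ ⟨y, hy, rfl⟩
    exact hWT hy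
  have hmv : ∀ n : N, ∀ u ∈ W2 ⊔ Subgroup.zpowers (e : S), mv (n : S) u ∈ W2 := by
    intro n u hu
    have hz : ∀ x ∈ Subgroup.zpowers (e : S), x = 1 ∨ x = (e : S) := fun x hx => by
      obtain ⟨k, rfl⟩ := Subgroup.mem_zpowers_iff.1 hx
      rcases Int.even_or_odd k with ⟨m, rfl⟩ | ⟨m, rfl⟩
      · exact Or.inl (by rw [zpow_add, ← (Commute.refl (e : S)).mul_zpow, hT.sq _ heT', one_zpow])
      · exact Or.inr (by rw [zpow_add, two_mul, zpow_add, ← (Commute.refl (e : S)).mul_zpow,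
          hT.sq _ heT', one_zpow, zpow_one, one_mul])
    rw [← SetLike.mem_coe, Subgroup.coe_mul_of_right_le_normalizer_left _ _ (Subgroup.zpowers_le.2
      (Subgroup.centralizer_le_normalizer _ (Subgroup.mem_centralizer_iff.2 fun x hx =>
        hT.comm x (hW2T hx) e heT')))] at hu
    obtain ⟨w, hw, x, hx, rfl⟩ := hu
    obtain ⟨w', hw', rfl⟩ := hw
    have h1 : mv (n : S) (w' : S) ∈ W2 :=
      ⟨w'⁻¹ * (n * w' * n⁻¹), W.mul_mem (W.inv_mem hw') (hWn.conj_mem w' hw' n), rfl⟩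
    have h2 : mv (n : S) x ∈ W2 := by
      rcases hz x hx with rfl | rfl
      · simpa [mv] using W2.one_mem
      · exact ⟨_, hecen n, rfl⟩
    have hxT : x ∈ T := Subgroup.zpowers_le.2 heT' hx
    show mv (n : S) ((w' : S) * x) ∈ W2
    rw [mv_mul, mul_assoc x⁻¹, hT.comm _ (hW2T h1) x hxT, inv_mul_cancel_left]
    exact W2.mul_mem h1 h2
  -- the eight-group meets `B`
  set W3 := W2 ⊔ Subgroup.zpowers (e : S)
  have hW3T : W3 ≤ T := sup_le hW2T (Subgroup.zpowers_le.2 heT')
  obtain ⟨b0, hb0, hb1⟩ : ∃ b ∈ W3 ⊓ B, b ≠ 1 := by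
    by_contra h
    push Not at h
    have h4 := hT.card_le_four hW3T ((Subgroup.eq_bot_iff_forall _).2 h)
    have heq := Subgroup.eq_of_le_of_card_ge (le_sup_left : W2 ≤ W3) (by rw [hW2]; exact h4)
    obtain ⟨y, hy, hye⟩ := (heq.symm ▸ Subgroup.mem_sup_right (Subgroup.mem_zpowers _) : (e : S) ∈ W2)
    exact heW (Subtype.ext hye ▸ hy)
  let G : N ⧸ T' → W2 := fun x => ⟨mv ((x.out : N) : S) b0, hmv _ b0 hb0.1⟩
  have hG : Function.Injective G := by
    intro x y h
    have h' : mv ((x.out : N) : S) b0 = mv ((y.out : N) : S) b0 := congrArg Subtype.val h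
    rw [← QuotientGroup.out_eq' x, ← QuotientGroup.out_eq' y, QuotientGroup.eq, Subgroup.mem_subgroupOf]
    refine hT.self b0 hb0.2 hb1 _ ?_
    have hc : ((x.out : N) : S) * b0 * ((x.out : N) : S)⁻¹ = ((y.out : N) : S) * b0 * ((y.out : N) : S)⁻¹ := by
      rw [conj_eq, conj_eq, h']
    show ((x.out : N) : S)⁻¹ * (y.out : N) * b0 = b0 * (((x.out : N) : S)⁻¹ * (y.out : N))
    calc _ = ((x.out : N) : S)⁻¹ * (((y.out : N) : S) * b0 * ((y.out : N) : S)⁻¹) * (y.out : N) := by group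
      _ = _ := by rw [← hc]; group
  have := Nat.card_le_card_of_injective G hG
  rwa [hW2] at this

theorem card_normalizer (hS : IsPGroup 2 S) (hT : Sixteen T B) :
    Nat.card (Subgroup.normalizer (T : Set S)) ≤ 64 := by
  rw [← relIndex_mul_card (Subgroup.le_normalizer (H := T)), hT.card]
  have := hT.relIndex_normalizer hS
  omega

/-- Subgroups normalizing `T`. -/
theorem bound_le (hS : IsPGroup 2 S) (hT : Sixteen T B) {H : Subgroup S}
    (hH : H ≤ Subgroup.normalizer (T : Set S)) : (NormalRankTwo.sq H).relIndex H ≤ 16 := by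
  by_contra hcon
  obtain ⟨k, hk⟩ := relIndex_sq_pow_two hS H
  have hR : 32 ≤ (NormalRankTwo.sq H).relIndex H := by
    rw [hk] at hcon ⊢
    have : 5 ≤ k := by
      by_contra h
      exact hcon ((Nat.pow_le_pow_right two_pos (show k ≤ 4 by omega)).trans (by norm_num))
    exact le_trans (by norm_num) (Nat.pow_le_pow_right two_pos this)
  have hc := relIndex_mul_card (sq_le H)
  have hN := (Subgroup.card_le_of_le hH).trans (hT.card_normalizer hS)
  have hpos : 0 < Nat.card (NormalRankTwo.sq H) := Nat.card_pos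
  have hH32 : 32 ≤ Nat.card H := by rw [← hc]; exact le_trans hR (Nat.le_mul_of_pos_right _ hpos)
  obtain ⟨r, hrH, hrT⟩ : ∃ r ∈ H, r ∉ T := SetLike.not_le_iff_exists.1 fun h => by
    have := Subgroup.card_le_of_le h
    rw [hT.card] at this
    omega
  have h1 := relIndex_mul_card (inf_le_left : H ⊓ T ≤ H)
  rw [inf_comm, Subgroup.inf_relIndex_right] at h1
  have h2 : T.relIndex H ≤ 4 :=
    (Subgroup.relIndex_le_of_le_right hH Subgroup.index_ne_zero_of_finite).trans (hT.relIndex_normalizer hS)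
  rcases Nat.lt_or_ge 32 (Nat.card H) with h | h
  · -- all of the normalizer
    have hHN : H = Subgroup.normalizer (T : Set S) := by
      refine Subgroup.eq_of_le_of_card_ge hH ?_
      obtain ⟨m, hm⟩ := IsPGroup.iff_card.1 (haveI : Fact (Nat.Prime 2) := ⟨Nat.prime_two⟩; hS.to_subgroup H)
      rw [hm] at h ⊢
      have : 6 ≤ m := by
        by_contra h'
        have := Nat.pow_le_pow_right two_pos (show m ≤ 5 by omega)
        omega
      exact (hT.card_normalizer hS).trans (le_trans (by norm_num) (Nat.pow_le_pow_right two_pos this))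
    have hTH : T ≤ H := hHN ▸ Subgroup.le_normalizer
    have h4 := hT.four_le_of_contains (hH hrH) hrT (K := NormalRankTwo.sq H) fun u hu => by
      have := commutator_mem_sq (H.inv_mem (hTH hu)) hrH
      rwa [show u⁻¹ * r * u⁻¹⁻¹ * r⁻¹ = mv r u by rw [mv]; group] at this
    have h5 := h4.trans (Subgroup.card_le_of_le inf_le_left)
    nlinarith
  · have hsq : NormalRankTwo.sq H = ⊥ := Subgroup.card_eq_one.1 (le_antisymm (by nlinarith) hpos)
    have hle : H ⊓ T ≤ fixed T r := fun u hu => by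
      refine mem_fixed.2 ⟨hu.2, ?_⟩
      have := commutator_mem_sq hu.1 hrH
      rw [hsq, Subgroup.mem_bot] at this
      exact mul_inv_eq_iff_eq_mul.1 (mul_inv_eq_one.1 this)
    have h3 := (Subgroup.card_le_of_le hle).trans (hT.card_fixed hrT)
    rw [inf_comm] at h3
    nlinarith

theorem bound (hS : IsPGroup 2 S) (hT : Sixteen T B) (H : Subgroup S) :
    (NormalRankTwo.sq H).relIndex H ≤ 16 := by
  classical
  haveI : Fact (Nat.Prime 2) := ⟨Nat.prime_two⟩
  set N := Subgroup.normalizer (T : Set S) with hNdef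
  by_cases hN : N = ⊤
  · exact hT.bound_le hS (hN.ge.trans' le_top)
  haveI := hS.isNilpotent
  have hlt : N < Subgroup.normalizer (N : Set S) :=
    Group.normalizerCondition_of_isNilpotent N (lt_top_iff_ne_top.2 hN)
  obtain ⟨t, htM, htN⟩ := SetLike.exists_of_lt hlt
  set T2 := T.map (MulAut.conj t).toMonoidHom
  have hmem2 : ∀ u : S, u ∈ T2 ↔ t⁻¹ * u * t ∈ T := fun u => by
    constructor
    · rintro ⟨v, hv, rfl⟩
      show t⁻¹ * (t * v * t⁻¹) * t ∈ T
      rwa [show t⁻¹ * (t * v * t⁻¹) * t = v by group]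
    · intro h
      exact ⟨_, h, show t * (t⁻¹ * u * t) * t⁻¹ = u by group⟩
  have hT2card : Nat.card T2 = 16 := by
    rw [← hT.card]; exact Subgroup.card_map_of_injective (MulAut.conj t).injective
  have hT2sq : ∀ a ∈ T2, a * a = 1 := by
    rintro _ ⟨v, hv, rfl⟩
    rw [← map_mul, hT.sq v hv, map_one]
  have hT2comm : ∀ a ∈ T2, ∀ b ∈ T2, a * b = b * a := by
    rintro _ ⟨u, hu, rfl⟩ _ ⟨v, hv, rfl⟩
    rw [← map_mul, hT.comm u hu v hv, map_mul]
  have hT2N : T2 ≤ N := by
    rintro _ ⟨v, hv, rfl⟩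
    exact (Subgroup.mem_normalizer_iff.1 htM v).1 (Subgroup.le_normalizer hv)
  have hne : ¬ T2 ≤ T := fun h => htN (by
    have e : T2 = T := Subgroup.eq_of_le_of_card_ge h (by rw [hT.card, hT2card])
    refine Subgroup.mem_normalizer_iff.2 fun u => ⟨fun hu => ?_, fun hu => ?_⟩
    · exact e.le ⟨u, hu, rfl⟩
    · have := (hmem2 _).1 (e.ge hu)
      rwa [show t⁻¹ * (t * u * t⁻¹) * t = u by group] at this)
  set W := T ⊓ T2
  have hW4 : Nat.card W ≤ 4 := hT.card_le_four inf_le_left ((Subgroup.eq_bot_iff_forall _).2 fun b hb => by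
    by_contra h1
    exact hne fun u hu => hT.self b hb.2 h1 u (hT2comm u hu b hb.1.2))
  have hW' : T.relIndex T2 * Nat.card W = 16 := by
    rw [← hT2card, ← Subgroup.inf_relIndex_right]
    exact relIndex_mul_card inf_le_right
  have hsup : T.relIndex T2 ≤ T.relIndex (T ⊔ T2) :=
    Subgroup.relIndex_le_of_le_right le_sup_right Subgroup.index_ne_zero_of_finite
  have hsupN : T ⊔ T2 ≤ N := sup_le Subgroup.le_normalizer hT2N
  have hsupc := relIndex_mul_card (le_sup_left : T ≤ T ⊔ T2)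
  have hN64 := hT.card_normalizer hS
  have hsN := Subgroup.card_le_of_le hsupN
  change Nat.card N ≤ 64 at hN64
  rw [hT.card] at hsupc
  have hWpos : 0 < Nat.card W := Nat.card_pos
  have hWeq : Nat.card W = 4 := by nlinarith
  have hNeq : T ⊔ T2 = N := Subgroup.eq_of_le_of_card_ge hsupN (by nlinarith)
  have hNcard : Nat.card N = 64 := le_antisymm hN64 (by nlinarith)
  have hfix : ∀ r ∈ T2, r ∉ T → ∀ u ∈ T, u * r = r * u → u ∈ W := by
    intro r hr hrT u hu h
    have hle : W ≤ fixed T r := fun v hv => mem_fixed.2 ⟨hv.1, hT2comm v hv.2 r hr⟩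
    have := Subgroup.eq_of_le_of_card_ge hle (by rw [hWeq]; exact hT.card_fixed hrT)
    exact this.symm ▸ mem_fixed.2 ⟨hu, h⟩
  have hprod : ∀ n ∈ N, ∃ u ∈ T, ∃ v ∈ T2, u * v = n := fun n hn => by
    have hn' : n ∈ ((T ⊔ T2 : Subgroup S) : Set S) := hNeq.ge hn
    rw [Subgroup.coe_mul_of_right_le_normalizer_left _ _ hT2N] at hn'
    exact hn'
  have hinvol : ∀ n ∈ N, n * n = 1 → n ∈ T ∨ n ∈ T2 := by
    intro n hn hn2
    obtain ⟨u, hu, v, hv, rfl⟩ := hprod n hn
    by_cases hvT : v ∈ T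
    · exact Or.inl (T.mul_mem hu hvT)
    · refine Or.inr (T2.mul_mem (hfix v hv hvT u hu ?_).2 hv)
      have h := inv_eq_of_mul_eq_one_right hn2
      rw [mul_inv_rev, inv_eq_of_mul_eq_one_right (hT.sq u hu), inv_eq_of_mul_eq_one_right (hT2sq v hv)] at h
      exact h.symm
  have helem : ∀ E : Subgroup S, E ≤ N → (∀ x ∈ E, x * x = 1) → E ≤ T ∨ E ≤ T2 := by
    intro E hE hE2
    by_contra h
    push Not at h
    obtain ⟨⟨x, hx, hxT⟩, ⟨y, hy, hyT⟩⟩ := And.intro (SetLike.not_le_iff_exists.1 h.1)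
      (SetLike.not_le_iff_exists.1 h.2)
    have hx2 := (hinvol x (hE hx) (hE2 x hx)).resolve_left hxT
    have hy1 := (hinvol y (hE hy) (hE2 y hy)).resolve_right hyT
    rcases hinvol _ (hE (E.mul_mem hx hy)) (hE2 _ (E.mul_mem hx hy)) with h' | h'
    · exact hxT ((T.mul_mem_cancel_right hy1).1 h')
    · exact hyT ((T2.mul_mem_cancel_left hx2).1 h')
  -- elements of `N(N)` outside `N` interchange `T` and `T2`
  set M := Subgroup.normalizer (N : Set S)
  have hswap : ∀ x ∈ M, x ∉ N → (∀ u ∈ T, x * u * x⁻¹ ∈ T2) ∧ ∀ u ∈ T2, x * u * x⁻¹ ∈ T := by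
    intro x hx hxN
    have himg : ∀ E : Subgroup S, E ≤ N → (∀ u ∈ E, u * u = 1) → Nat.card E = 16 →
        E.map (MulAut.conj x).toMonoidHom = T ∨ E.map (MulAut.conj x).toMonoidHom = T2 := by
      intro E hE hE2 hEc
      have hc : Nat.card (E.map (MulAut.conj x).toMonoidHom : Subgroup S) = 16 := by
        rw [← hEc]; exact Subgroup.card_map_of_injective (MulAut.conj x).injective
      rcases helem (E.map (MulAut.conj x).toMonoidHom) (by
          rintro _ ⟨v, hv, rfl⟩
          exact (Subgroup.mem_normalizer_iff.1 hx v).1 (hE hv)) (by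
          rintro _ ⟨v, hv, rfl⟩
          rw [← map_mul, hE2 v hv, map_one]) with h | h
      · exact Or.inl (Subgroup.eq_of_le_of_card_ge h (by rw [hc, hT.card]))
      · exact Or.inr (Subgroup.eq_of_le_of_card_ge h (by rw [hc, hT2card]))
    have h1 := himg T Subgroup.le_normalizer hT.sq hT.card
    have h2 := himg T2 hT2N hT2sq hT2card
    rcases h1 with h1 | h1
    · exfalso
      refine hxN (Subgroup.mem_normalizer_iff.2 fun u => ⟨fun hu => h1.le ⟨u, hu, rfl⟩, fun hu => ?_⟩)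
      obtain ⟨v, hv, e⟩ := h1.ge hu
      exact (MulAut.conj x).injective e ▸ hv
    rcases h2 with h2 | h2
    swap
    · exfalso
      exact hne ((Subgroup.map_injective (f := (MulAut.conj x).toMonoidHom) (MulAut.conj x).injective
        (h2.trans h1.symm)).le)
    exact ⟨fun u hu => h1.le ⟨u, hu, rfl⟩, fun u hu => h2.le ⟨u, hu, rfl⟩⟩
  have hMidx : N.relIndex M = 2 := by
    rw [Subgroup.relIndex, Subgroup.index_eq_two_iff]
    refine ⟨⟨t, htM⟩, fun b => ?_⟩
    show Xor ((b : S) * t ∈ N) ((b : S) ∈ N)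
    by_cases hb : (b : S) ∈ N
    · exact Or.inr ⟨hb, fun h => htN ((N.mul_mem_cancel_left hb).1 h)⟩
    · refine Or.inl ⟨Subgroup.mem_normalizer_iff.2 fun u => ⟨fun hu => ?_, fun hu => ?_⟩, hb⟩
      · rw [show (b : S) * t * u * ((b : S) * t)⁻¹ = b * (t * u * t⁻¹) * (b : S)⁻¹ by group]
        exact (hswap b b.2 hb).2 _ ((hswap t htM htN).1 u hu)
      · have hbi : (b : S)⁻¹ ∉ N := fun h => hb (N.inv_mem_iff.1 h)
        have hti : t⁻¹ ∉ N := fun h => htN (N.inv_mem_iff.1 h)
        have h1 := (hswap _ (M.inv_mem b.2) hbi).1 _ hu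
        have h2 := (hswap _ (M.inv_mem htM) hti).2 _ h1
        rwa [show t⁻¹ * ((b : S)⁻¹ * ((b : S) * t * u * ((b : S) * t)⁻¹) * (b : S)⁻¹⁻¹) * t⁻¹⁻¹ = u by group] at h2
  have hMcard : Nat.card M = 128 := by
    rw [← relIndex_mul_card (Subgroup.le_normalizer (H := N)), hMidx, hNcard]
  -- `M` is the whole group
  have hlow : ∀ E : Subgroup S, E ≤ M → (∀ u ∈ E, u * u = 1) → Nat.card E = 16 → E ≤ N := by
    intro E hE hE2 hEc
    by_contra h
    obtain ⟨x, hxE, hxN⟩ := SetLike.not_le_iff_exists.1 h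
    have h1 : (E ⊓ N).relIndex E ≤ 2 := by
      rw [inf_comm, Subgroup.inf_relIndex_right]
      exact (Subgroup.relIndex_le_of_le_right hE Subgroup.index_ne_zero_of_finite).trans hMidx.le
    have h2 := relIndex_mul_card (inf_le_left : E ⊓ N ≤ E)
    rw [hEc] at h2
    obtain ⟨u, huE, huW⟩ : ∃ u ∈ E ⊓ N, u ∉ W := SetLike.not_le_iff_exists.1 fun h' => by
      have := Subgroup.card_le_of_le h'
      rw [hWeq] at this
      nlinarith
    have hux : x * u * x⁻¹ = u := by
      have hc : x * u = u * x := by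
        have h := inv_eq_of_mul_eq_one_right (hE2 _ (E.mul_mem hxE huE.1))
        rw [mul_inv_rev, inv_eq_of_mul_eq_one_right (hE2 x hxE), inv_eq_of_mul_eq_one_right (hE2 u huE.1)] at h
        exact h.symm
      rw [hc, mul_inv_cancel_right]
    rcases hinvol u huE.2 (hE2 u huE.1) with h' | h'
    · exact huW ⟨h', hux ▸ (hswap x (hE hxE) hxN).1 u h'⟩
    · exact huW ⟨hux ▸ (hswap x (hE hxE) hxN).2 u h', h'⟩
  have hMtop : M = ⊤ := by
    by_contra hM
    obtain ⟨s, hsM, hsn⟩ := SetLike.exists_of_lt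
      (Group.normalizerCondition_of_isNilpotent M (lt_top_iff_ne_top.2 hM))
    have himg : ∀ E : Subgroup S, E ≤ M → (∀ u ∈ E, u * u = 1) → Nat.card E = 16 →
        ∀ u ∈ E, s * u * s⁻¹ ∈ N := by
      intro E hE hE2 hEc u hu
      refine hlow (E.map (MulAut.conj s).toMonoidHom) ?_ ?_ ?_ ⟨u, hu, rfl⟩
      · rintro _ ⟨v, hv, rfl⟩
        exact (Subgroup.mem_normalizer_iff.1 hsM v).1 (hE hv)
      · rintro _ ⟨v, hv, rfl⟩
        rw [← map_mul, hE2 v hv, map_one]
      · rw [← hEc]; exact Subgroup.card_map_of_injective (MulAut.conj s).injective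
    have hNM : N ≤ M := Subgroup.le_normalizer
    have hall : ∀ u ∈ N, s * u * s⁻¹ ∈ N := by
      intro u hu
      obtain ⟨p, hp, q, hq, rfl⟩ := hprod u hu
      rw [show s * (p * q) * s⁻¹ = (s * p * s⁻¹) * (s * q * s⁻¹) by group]
      exact N.mul_mem (himg T (Subgroup.le_normalizer.trans hNM) hT.sq hT.card p hp)
        (himg T2 (hT2N.trans hNM) hT2sq hT2card q hq)
    refine hsn ?_
    have hmap : N.map (MulAut.conj s).toMonoidHom = N :=
      Subgroup.eq_of_le_of_card_ge (by rintro _ ⟨v, hv, rfl⟩; exact hall v hv)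
        (Subgroup.card_map_of_injective (MulAut.conj s).injective).ge
    refine Subgroup.mem_normalizer_iff.2 fun u => ⟨fun hu => hall u hu, fun hu => ?_⟩
    obtain ⟨v, hv, e⟩ := hmap.ge hu
    exact (MulAut.conj s).injective e ▸ hv
  -- the bound
  by_contra hcon
  have hHN : ¬ H ≤ N := fun h => hcon (hT.bound_le hS h)
  obtain ⟨x, hxH, hxN⟩ := SetLike.not_le_iff_exists.1 hHN
  have hxM : x ∈ M := hMtop ▸ Subgroup.mem_top x
  obtain ⟨k, hk⟩ := relIndex_sq_pow_two hS H
  have hR : 32 ≤ (NormalRankTwo.sq H).relIndex H := by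
    rw [hk] at hcon ⊢
    have : 5 ≤ k := by
      by_contra h
      exact hcon ((Nat.pow_le_pow_right two_pos (show k ≤ 4 by omega)).trans (by norm_num))
    exact le_trans (by norm_num) (Nat.pow_le_pow_right two_pos this)
  have hc := relIndex_mul_card (sq_le H)
  have hH128 : Nat.card H ≤ 128 :=
    (Subgroup.card_le_of_le (show H ≤ M from hMtop ▸ le_top)).trans hMcard.le
  set K := H ⊓ N
  have hK := relIndex_mul_card (inf_le_left : K ≤ H)
  have hK2 : K.relIndex H ≤ 2 := by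
    rw [show K = N ⊓ H from inf_comm _ _, Subgroup.inf_relIndex_right]
    exact (Subgroup.relIndex_le_of_le_right (show H ≤ M from hMtop ▸ le_top)
      Subgroup.index_ne_zero_of_finite).trans hMidx.le
  have hKT := relIndex_mul_card (inf_le_left : K ⊓ T ≤ K)
  have hKT4 : (K ⊓ T).relIndex K ≤ 4 := by
    rw [inf_comm, Subgroup.inf_relIndex_right]
    exact (Subgroup.relIndex_le_of_le_right inf_le_right Subgroup.index_ne_zero_of_finite).trans
      (hT.relIndex_normalizer hS)
  have hsqpos : 0 < Nat.card (NormalRankTwo.sq H) := Nat.card_pos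
  have hmv : ∀ u ∈ H, ∀ y ∈ H, mv y u ∈ NormalRankTwo.sq H := fun u hu y hy => by
    have := commutator_mem_sq (H.inv_mem hu) hy
    rwa [show u⁻¹ * y * u⁻¹⁻¹ * y⁻¹ = mv y u by rw [mv]; group] at this
  by_cases hsub : K ⊓ T ≤ W
  · have hle := Subgroup.card_le_of_le hsub
    rw [hWeq] at hle
    have hK16 : Nat.card K ≤ 16 := by nlinarith
    have hH32 : Nat.card H ≤ 32 := by nlinarith
    have hsq1 : NormalRankTwo.sq H = ⊥ := Subgroup.card_eq_one.1 (le_antisymm (by nlinarith) hsqpos)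
    have hKeq : Nat.card K = 16 := by
      have h32 : 32 ≤ Nat.card H := hR.trans (hc ▸ Nat.le_mul_of_pos_right _ hsqpos)
      exact le_antisymm hK16 (by nlinarith)
    have hK2' : ∀ u ∈ K, u * u = 1 := fun u hu => by
      have := sq_mem (H := H) hu.1
      rwa [hsq1, Subgroup.mem_bot, pow_two] at this
    rcases helem K inf_le_right hK2' with h | h
    · rw [inf_eq_left.2 h] at hle
      omega
    · have e : K = T2 := Subgroup.eq_of_le_of_card_ge h (by rw [hKeq, hT2card])
      refine hne fun u hu => ?_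
      have h1 := hmv u ((e.ge hu).1) x hxH
      rw [hsq1, Subgroup.mem_bot, mv_eq_one] at h1
      have := (hswap x hxM hxN).2 u hu
      rwa [h1, mul_inv_cancel_right] at this
  obtain ⟨u, hu, huW⟩ := SetLike.not_le_iff_exists.1 hsub
  have hxu := (hswap x hxM hxN).1 u hu.2
  have hc1T : mv x u ∉ T := fun h => huW ⟨hu.2, by
    have hin : x * u * x⁻¹ ∈ T := by rw [conj_eq]; exact T.mul_mem hu.2 h
    have := (hswap x⁻¹ (M.inv_mem hxM) fun h' => hxN (N.inv_mem_iff.1 h')).1 _ hin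
    rwa [show x⁻¹ * (x * u * x⁻¹) * x⁻¹⁻¹ = u by group] at this⟩
  have hsq2 : 2 ≤ Nat.card (NormalRankTwo.sq H) := by
    by_contra h
    have h1 := hmv u hu.1.1 x hxH
    rw [Subgroup.card_eq_one.1 (show Nat.card (NormalRankTwo.sq H) = 1 by omega), Subgroup.mem_bot] at h1
    exact hc1T (h1 ▸ T.one_mem)
  obtain ⟨r, hrK, hrT⟩ : ∃ r ∈ K, r ∉ T := SetLike.not_le_iff_exists.1 fun h => by
    have := Subgroup.card_le_of_le h
    rw [hT.card] at this
    nlinarith
  have hc2 : mv r u ∈ T := T.mul_mem (T.inv_mem hu.2) ((Subgroup.mem_normalizer_iff.1 hrK.2 u).1 hu.2)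
  have hc2ne : mv r u ≠ 1 := fun h => by
    obtain ⟨p, hp, q, hq, rfl⟩ := hprod r hrK.2
    have hqT : q ∉ T := fun hqT => hrT (T.mul_mem hp hqT)
    refine huW (hfix q hq hqT u hu.2 ?_)
    have h' := mv_eq_one.1 h
    rw [mul_assoc, ← mul_assoc u, hT.comm u hu.2 p hp, mul_assoc p u] at h'
    exact (mul_left_cancel h').symm
  have h1 := hmv u hu.1.1 x hxH
  have h2 := hmv u hu.1.1 r hrK.1
  have hlt : (NormalRankTwo.sq H ⊓ T).relIndex (NormalRankTwo.sq H) ≠ 1 := fun h =>
    hc1T (Subgroup.relIndex_eq_one.1 h h1).2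
  have hpos' := relIndex_pos (NormalRankTwo.sq H ⊓ T) (NormalRankTwo.sq H)
  have hcs := relIndex_mul_card (inf_le_left : NormalRankTwo.sq H ⊓ T ≤ NormalRankTwo.sq H)
  have hne1 : 2 ≤ Nat.card (NormalRankTwo.sq H ⊓ T : Subgroup S) := by
    by_contra h
    have h0 : 0 < Nat.card (NormalRankTwo.sq H ⊓ T : Subgroup S) := Nat.card_pos
    exact hc2ne (Subgroup.mem_bot.1 (Subgroup.card_eq_one.1 (by omega : Nat.card (NormalRankTwo.sq H ⊓ T : Subgroup S) = 1) ▸
      (⟨h2, hc2⟩ : mv r u ∈ NormalRankTwo.sq H ⊓ T)))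
  have hsq4 : 4 ≤ Nat.card (NormalRankTwo.sq H) := by
    rw [← hcs]
    exact Nat.mul_le_mul (show 2 ≤ _ by omega) hne1
  have hHM : H = M := Subgroup.eq_of_le_of_card_ge (hMtop ▸ le_top) (by rw [hMcard]; nlinarith)
  have h4 := hT.four_le_of_contains hrK.2 hrT (K := NormalRankTwo.sq H) fun v hv =>
    hmv v (hHM ▸ (Subgroup.le_normalizer.trans Subgroup.le_normalizer : T ≤ M) hv) r hrK.1
  have hge8 : 2 * 4 ≤ Nat.card (NormalRankTwo.sq H) := by
    rw [← hcs]
    exact Nat.mul_le_mul (show 2 ≤ _ by omega) h4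
  nlinarith

end Sixteen

end CfsgLib.TwoGroups.SelfCentEight
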