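import Cfsg.Agent.Lib.TwoGroups.SelfCentEight.Flag

/-!
The bound `|H : H²| ≤ 16` when the centralizer of the normal eight-group has order at most sixteen,
reduced to two forbidden configurations.
-/

set_option autoImplicit false
set_option linter.style.haveILetI false
set_option linter.unusedSectionVars false

namespace CfsgLib.TwoGroups.SelfCentEight

open CfsgLib.TwoGroups.NormalRankTwo

variable {S : Type*} [Group S] [Finite S] {V : Subgroup S}

namespace Flag

variable {c1 c2 c3 : S}

/-- All transvections with axis the second flag term centralize `e`. -/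
def AxisFull (F : Flag V c1 c2 c3) (e : S) : Prop :=
  ∀ l ∈ F.D, ∃ h : S, mv h c2 = 1 ∧ mv h c3 = l ∧ mv h e = 1

/-- All transvections with centre the first flag point send `C(V)` into that point. -/
def CentreFull (_F : Flag V c1 c2 c3) : Prop :=
  ∀ i ∈ Subgroup.zpowers c1, ∀ j ∈ Subgroup.zpowers c1,
    ∃ h : S, mv h c2 = i ∧ mv h c3 = j ∧ ∀ x ∈ cen V, mv h x ∈ Subgroup.zpowers c1

theorem relIndex_le_sixteen (hS : IsPGroup 2 S) (F : Flag V c1 c2 c3) (hC : Nat.card (cen V) ≤ 16)
    (hI : ∀ e ∈ cen V, e ∉ V → ¬ F.AxisFull e) (hII : Nat.card (cen V) = 16 → ¬ F.CentreFull)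
    (H : Subgroup S) : (sq H).relIndex H ≤ 16 := by
  classical
  haveI := cen_normal F.eight
  haveI : Fact (Nat.Prime 2) := ⟨Nat.prime_two⟩
  set f := QuotientGroup.mk' (cen V)
  have hker : f.ker = cen V := QuotientGroup.ker_mk' _
  have hR := relIndex_count f (sq_le H)
  rw [hker, map_sq f H] at hR
  have hb := F.relIndex_sq_map_le_four hS H
  change (sq (H.map f)).relIndex (H.map f) ≤ 4 at hb
  set b := (sq (H.map f)).relIndex (H.map f)
  set M := H ⊓ cen V
  set F0 := sq H ⊓ cen V
  set a := F0.relIndex M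
  set R := (sq H).relIndex H
  have hF0M : F0 ≤ M := inf_le_inf_right _ (sq_le H)
  have ha : a * Nat.card F0 = Nat.card M := relIndex_mul_card hF0M
  have hM16 : Nat.card M ≤ 16 := (Subgroup.card_le_of_le inf_le_right).trans hC
  have hF0pos : 0 < Nat.card F0 := Nat.card_pos
  by_contra hcon
  obtain ⟨k, hk⟩ := relIndex_sq_pow_two hS H
  have hk5 : 5 ≤ k := by
    by_contra h
    exact hcon (hk.trans_le ((Nat.pow_le_pow_right two_pos (show k ≤ 4 by omega)).trans (by norm_num)))
  have hR32 : 32 ≤ a * b := by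
    rw [← hR]
    exact le_trans (le_trans (by norm_num) (Nat.pow_le_pow_right two_pos hk5)) hk.ge
  have hcomm : ∀ h ∈ H, ∀ x ∈ M, mv h x ∈ F0 := fun h hh x hx => by
    refine ⟨?_, mv_mem_cen F.eight h hx.2⟩
    have := commutator_mem_sq (H.inv_mem hx.1) hh
    rwa [show x⁻¹ * h * x⁻¹⁻¹ * h⁻¹ = mv h x by rw [mv]; group] at this
  have hq : Nat.card (H.map f) = (cen V).relIndex H := by
    rw [← Subgroup.relIndex_ker (K := H) f, hker]
  have hbq : b ≤ (cen V).relIndex H := by
    rw [← hq]
    calc b ≤ b * Nat.card (sq (H.map f)) := Nat.le_mul_of_pos_right _ Nat.card_pos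
      _ = _ := relIndex_mul_card (sq_le _)
  -- `H` does not centralize `V`
  have hnle : ¬ H ≤ cen V := by
    intro h
    rw [Subgroup.relIndex_eq_one.2 h] at hbq
    nlinarith
  have hVM : F0 = ⊥ → ¬ V ≤ M := fun h0 hVM => hnle fun h hh => mem_cen.2 fun v hv => by
    have := hcomm h hh v (hVM hv)
    rw [h0, Subgroup.mem_bot, mv_eq_one] at this
    exact this.symm
  by_cases hb4 : b = 4
  swap
  · have hb2 : b ≤ 2 := by
      obtain ⟨j, hj⟩ := relIndex_sq_pow_two (hS.to_quotient (cen V)) (H.map f)
      change b = 2 ^ j at hj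
      rw [hj] at hb hb4 ⊢
      rcases Nat.lt_or_ge j 2 with h | h
      · exact (Nat.pow_le_pow_right two_pos (show j ≤ 1 by omega)).trans (by norm_num)
      · have := Nat.pow_le_pow_right two_pos h
        omega
    have hF1 : Nat.card F0 = 1 := by nlinarith
    have hM : M = cen V := Subgroup.eq_of_le_of_card_ge inf_le_right (by nlinarith)
    exact hVM (Subgroup.card_eq_one.1 hF1) (hM ▸ le_cen F.eight)
  have ha8 : 8 ≤ a := by nlinarith
  have hFle : Nat.card F0 ≤ 2 := by nlinarith
  rcases Nat.lt_or_ge (Nat.card F0) 2 with h1 | h2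
  · -- `H` centralizes `M`
    have h0 : F0 = ⊥ := Subgroup.card_eq_one.1 (by omega)
    have hcM : Nat.card M = a := by rw [← ha, show Nat.card F0 = 1 by omega, mul_one]
    have hfix : ∀ h ∈ H, ∀ x ∈ M, mv h x = 1 := fun h hh x hx => by
      have := hcomm h hh x hx
      rwa [h0, Subgroup.mem_bot] at this
    set L := M ⊓ V
    have hcL : L.relIndex M * Nat.card L = Nat.card M := relIndex_mul_card inf_le_left
    have hVC : V.relIndex (cen V) * 8 = Nat.card (cen V) := by
      rw [← F.eight.card]; exact relIndex_mul_card (le_cen F.eight)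
    have hLM : L.relIndex M ≤ 2 := by
      have h1 : L.relIndex M = V.relIndex M := by
        rw [show L = V ⊓ M from inf_comm _ _, Subgroup.inf_relIndex_right]
      have h2 : V.relIndex M ≤ V.relIndex (cen V) :=
        Subgroup.relIndex_le_of_le_right inf_le_right Subgroup.index_ne_zero_of_finite
      have h3 := relIndex_pos V (cen V)
      nlinarith
    obtain ⟨j, hj⟩ := IsPGroup.iff_card.1 (hS.to_subgroup L)
    have hL4 : Nat.card L = 4 := by
      have hlt : Nat.card L < 8 := by
        by_contra h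
        exact hVM h0 (inf_eq_right.1 (Subgroup.eq_of_le_of_card_ge inf_le_right
          (by rw [F.eight.card]; change 8 ≤ Nat.card L; omega)))
      have hge : 4 ≤ Nat.card L := by nlinarith
      rw [hj] at hlt hge ⊢
      have : j < 3 := by
        by_contra h
        have := Nat.pow_le_pow_right two_pos (show 3 ≤ j by omega)
        omega
      interval_cases j <;> omega
    have hq4 : 4 ≤ (cen V).relIndex H := hb4 ▸ hbq
    have hfL : ∀ h ∈ H, ∀ l ∈ L, mv h l = 1 := fun h hh l hl => hfix h hh l hl.1
    have hc1 : c1 ∈ L := by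
      by_contra hn
      refine hnle fun h hh => ?_
      have hall : ∀ v ∈ V, mv h v = 1 := by
        intro v hv
        by_cases hvL : v ∈ L
        · exact hfL h hh v hvL
        · have hm := mul_mem_of_card (inf_le_right : L ≤ V) (by rw [F.eight.card, hL4]) hv F.m1 hvL hn
          have := hfL h hh _ hm
          rwa [mv_hom_mul F.eight h hv F.m1, F.fix1, mul_one] at this
      exact F.mem_cen_of_fix (hall c2 F.m2) (hall c3 F.m3)
    have hc2 : c2 ∈ L := by
      by_contra hn
      have hinj := exists_coset_inj (V := V) (H := H)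
        (fun h => (⟨mv (h : S) c2, by
          rcases F.fix2 h with e | e <;> rw [e]
          exacts [one_mem _, Subgroup.mem_zpowers c1]⟩ : Subgroup.zpowers c1))
        fun x y e => by
          have e2 : mv (x : S) c2 = mv (y : S) c2 := congrArg Subtype.val e
          refine F.alike e2 ?_
          by_cases h3 : c3 ∈ L
          · rw [hfL x x.2 _ h3, hfL y y.2 _ h3]
          · have hm := mul_mem_of_card (inf_le_right : L ≤ V) (by rw [F.eight.card, hL4]) F.m3 F.m2 h3 hn
            have e1 := (hfL x x.2 _ hm).trans (hfL y y.2 _ hm).symm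
            rw [mv_hom_mul F.eight _ F.m3 F.m2, mv_hom_mul F.eight _ F.m3 F.m2, e2] at e1
            exact mul_right_cancel e1
      rw [F.card_zpowers] at hinj
      omega
    have hLD : L = F.D := by
      refine (Subgroup.eq_of_le_of_card_ge ?_ (by rw [hL4, F.card_D])).symm
      rintro x (rfl | rfl | rfl | rfl)
      exacts [L.one_mem, hc1, hc2, L.mul_mem hc1 hc2]
    obtain ⟨e, heM, heV⟩ : ∃ e ∈ M, e ∉ V := SetLike.not_le_iff_exists.1 fun h => by
      have : M = L := le_antisymm (le_inf le_rfl h) inf_le_left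
      have : Nat.card M = 4 := this ▸ hL4
      omega
    refine hI e heM.2 heV fun l hl => ?_
    obtain ⟨-, hsurj⟩ := exists_coset_inj (V := V) (H := H) (fun h => (⟨mv (h : S) c3, F.fix3 h⟩ : F.D))
      fun x y e' => F.alike (by rw [hfL x x.2 _ hc2, hfL y y.2 _ hc2]) (congrArg Subtype.val e')
    obtain ⟨h, hh⟩ := hsurj (by rw [F.card_D]; exact hq4) ⟨l, hl⟩
    exact ⟨h, hfL h h.2 _ hc2, congrArg Subtype.val hh, hfix h h.2 _ heM⟩
  · -- `H` moves `C(V)` into a point
    have hF2 : Nat.card F0 = 2 := by omega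
    have hMc : M = cen V := Subgroup.eq_of_le_of_card_ge inf_le_right (by nlinarith)
    have hC16 : Nat.card (cen V) = 16 := le_antisymm hC (hMc ▸ by nlinarith)
    have hmv : ∀ h ∈ H, ∀ x ∈ cen V, mv h x ∈ F0 := fun h hh x hx => hcomm h hh x (hMc ▸ hx)
    obtain ⟨c, hcV, hc1, hcF⟩ : ∃ c ∈ V, c ≠ 1 ∧ c ∈ F0 := by
      by_contra h
      push Not at h
      refine hnle fun g hg => F.mem_cen_of_fix ?_ ?_
      · by_contra h'; exact h _ (mv_mem F.eight g F.m2) h' (hmv g hg c2 (le_cen F.eight F.m2))
      · by_contra h'; exact h _ (mv_mem F.eight g F.m3) h' (hmv g hg c3 (le_cen F.eight F.m3))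
    have hFc : ∀ x ∈ F0, x = 1 ∨ x = c := by
      intro x hx
      refine or_iff_not_imp_left.2 fun hx1 => ?_
      haveI : Fintype F0 := Fintype.ofFinite _
      have h2 : Fintype.card F0 = 2 := by rw [← Nat.card_eq_fintype_card, hF2]
      by_contra hxc
      have : (2 : ℕ) < Fintype.card F0 := Fintype.two_lt_card_iff.2
        ⟨1, ⟨c, hcF⟩, ⟨x, hx⟩, fun e => hc1 (congrArg Subtype.val e).symm,
          fun e => hx1 (congrArg Subtype.val e).symm, fun e => hxc (congrArg Subtype.val e).symm⟩
      omega
    have hfixc : ∀ h ∈ H, mv h c = 1 := by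
      intro h hh
      rcases hFc _ (hmv h hh c (le_cen F.eight hcV)) with e | e
      · exact e
      · exfalso
        have e' := conj_eq h c
        rw [e, F.eight.sq c hcV] at e'
        exact hc1 (by
          calc c = h⁻¹ * (h * c * h⁻¹) * h := by group
            _ = 1 := by rw [e']; group)
    have hq4 : 4 ≤ (cen V).relIndex H := hb4 ▸ hbq
    have hcc1 : c = c1 := by
      by_contra hne
      by_cases hcD : c ∈ F.D
      · -- `c2` is fixed, so only the image of `c3` varies
        have hf2 : ∀ h ∈ H, mv h c2 = 1 := by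
          intro h hh
          rcases hcD with e | e | e | e
          · exact absurd e hc1
          · exact absurd e hne
          · exact e ▸ hfixc h hh
          · have := hfixc h hh
            rwa [e, mv_hom_mul F.eight h F.m1 F.m2, F.fix1, one_mul] at this
        have hinj := exists_coset_inj (V := V) (H := H)
          (fun h => (⟨mv (h : S) c3, hmv h h.2 c3 (le_cen F.eight F.m3)⟩ : F0))
          fun x y e' => F.alike (by rw [hf2 x x.2, hf2 y y.2]) (congrArg Subtype.val e')
        omega
      · refine hnle fun h hh => ?_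
        have h2 : mv h c2 = 1 := by
          rcases F.fix2 h with e | e
          · exact e
          · rcases hFc _ (hmv h hh c2 (le_cen F.eight F.m2)) with e' | e'
            · exact e'
            · exact absurd (e'.symm.trans e) hne
        refine F.mem_cen_of_fix h2 ?_
        have hm := mul_mem_of_card F.D_le (by rw [F.eight.card, F.card_D]) F.m3 hcV F.c3_notin hcD
        have hD1 : ∀ x ∈ F.D, mv h x = 1 := by
          rintro x (rfl | rfl | rfl | rfl)
          exacts [by simp [mv], F.fix1 h, h2, by rw [mv_hom_mul F.eight h F.m1 F.m2, F.fix1, h2, one_mul]]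
        have := hD1 _ hm
        rwa [mv_hom_mul F.eight h F.m3 hcV, hfixc h hh, mul_one] at this
    have hz : ∀ h ∈ H, ∀ x ∈ cen V, mv h x ∈ Subgroup.zpowers c1 := fun h hh x hx => by
      rcases hFc _ (hmv h hh x hx) with e | e <;> rw [e]
      exacts [one_mem _, hcc1 ▸ Subgroup.mem_zpowers c]
    refine hII hC16 fun i hi j hj => ?_
    obtain ⟨-, hsurj⟩ := exists_coset_inj (V := V) (H := H)
      (fun h => ((⟨mv (h : S) c2, hz h h.2 c2 (le_cen F.eight F.m2)⟩, ⟨mv (h : S) c3, hz h h.2 c3 (le_cen F.eight F.m3)⟩) :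
        Subgroup.zpowers c1 × Subgroup.zpowers c1))
      fun x y e' => F.alike (congrArg (fun p : Subgroup.zpowers c1 × Subgroup.zpowers c1 => (p.1 : S)) e')
        (congrArg (fun p : Subgroup.zpowers c1 × Subgroup.zpowers c1 => (p.2 : S)) e')
    obtain ⟨h, hh⟩ := hsurj (by rw [Nat.card_prod, F.card_zpowers]; exact hq4) (⟨i, hi⟩, ⟨j, hj⟩)
    exact ⟨h, congrArg (fun p : Subgroup.zpowers c1 × Subgroup.zpowers c1 => (p.1 : S)) hh,
      congrArg (fun p : Subgroup.zpowers c1 × Subgroup.zpowers c1 => (p.2 : S)) hh, hz h h.2⟩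

end Flag

end CfsgLib.TwoGroups.SelfCentEight
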